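import Mathlib

/-!
# Sums of two powers of two modulo a large divisor of `2 ^ n - 1`

If `m * d = 2 ^ n - 1` with `d ∣ n`, then `2 ^ n - 1` and `m` have the same prime divisors, and the
residues modulo `m` of sums of two powers of two behave as those modulo `2 ^ n - 1`.
-/

set_option autoImplicit false

namespace CfsgLib.SolvTrans

/-- Every prime divisor of `2 ^ n - 1` divides the large factor. -/
theorem prime_dvd_large {n m d p : ℕ} (hn : 0 < n) (hmd : m * d = 2 ^ n - 1) (hdn : d ∣ n)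
    (hp : p.Prime) (h : p ∣ 2 ^ n - 1) : p ∣ m := by
  haveI := Fact.mk hp
  by_contra hpm
  have key : p ^ (n.factorization p + 1) ∣ 2 ^ n - 1 := by
    obtain ⟨t, ht⟩ : p ^ n.factorization p ∣ n := Nat.ordProj_dvd n p
    set a := n.factorization p
    have hp1 : ((2 : ZMod p) ^ t) = 1 := by
      have h1 : ((2 ^ n : ℕ) : ZMod p) = 1 := by
        rw [← sub_eq_zero, ← Nat.cast_one, ← Nat.cast_sub Nat.one_le_two_pow]
        exact (ZMod.natCast_eq_zero_iff _ _).mpr h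
      rw [ht, Nat.cast_pow, mul_comm, pow_mul, ZMod.pow_card_pow] at h1
      exact_mod_cast h1
    have h2 : (p : ℤ) ∣ (2 : ℤ) ^ t - 1 := by
      rw [← ZMod.intCast_zmod_eq_zero_iff_dvd]
      push_cast
      rw [hp1, sub_self]
    have h3 := dvd_sub_pow_of_dvd_sub h2 a
    rw [one_pow, ← pow_mul, mul_comm t, ← ht] at h3
    have h4 : ((p ^ (a + 1) : ℕ) : ℤ) ∣ ((2 ^ n - 1 : ℕ) : ℤ) := by
      rw [Nat.cast_sub Nat.one_le_two_pow]
      push_cast
      exact h3
    exact_mod_cast h4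
  rw [← hmd] at key
  exact Nat.pow_succ_factorization_not_dvd hn.ne' hp
    ((Nat.Coprime.dvd_of_dvd_mul_left
      (Nat.Coprime.pow_left _ ((hp.coprime_iff_not_dvd).mpr hpm)) key).trans hdn)

/-- Coprimality with the large factor is coprimality with `2 ^ n - 1`. -/
theorem coprime_full {n m d k : ℕ} (hn : 0 < n) (hmd : m * d = 2 ^ n - 1) (hdn : d ∣ n)
    (h : Nat.Coprime k m) : Nat.Coprime k (2 ^ n - 1) :=
  Nat.coprime_of_dvd fun p hp hk hN =>
    hp.one_lt.ne' (Nat.eq_one_of_dvd_coprimes h hk (prime_dvd_large hn hmd hdn hp hN))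

/-- The large factor is too large to divide `2 ^ g - 1` for a proper divisor `g` of `n`. -/
theorem not_dvd_sub {n m d g : ℕ} (hn : 2 ≤ n) (hmd : m * d = 2 ^ n - 1) (hdn : d ∣ n)
    (hg : 2 * g ≤ n) (hg0 : 0 < g) : ¬ m ∣ 2 ^ g - 1 := by
  intro h
  have hd : d ≤ n := Nat.le_of_dvd (by omega) hdn
  have hG : 2 ≤ 2 ^ g := Nat.le_self_pow hg0.ne' 2
  have h2 : m ≤ 2 ^ g - 1 := Nat.le_of_dvd (by omega) h
  have h3 : 2 ^ n - 1 ≤ (2 ^ g - 1) * n := by rw [← hmd]; exact Nat.mul_le_mul h2 hd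
  obtain ⟨j, hj, hj2⟩ : ∃ j, n - g = j ∧ n ≤ 2 * j := ⟨n - g, rfl, by omega⟩
  have hn' : n ≤ 2 ^ j := by
    have : 2 * j ≤ 2 ^ j := by
      clear hj hj2
      induction j with
      | zero => simp
      | succ j ih => rcases j with _ | j <;> simp [pow_succ] at * <;> omega
    omega
  have h4 : 2 ^ g * 2 ^ j = 2 ^ n := by rw [← pow_add]; congr 1; omega
  have h5 : (2 ^ g - 1) * n ≤ (2 ^ g - 1) * 2 ^ j := Nat.mul_le_mul_left _ hn'
  simp only [Nat.sub_mul, one_mul] at h5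
  rw [h4] at h5
  simp only [Nat.sub_mul, one_mul] at h3
  have h6 : 2 ≤ 2 ^ j := Nat.le_self_pow (by omega) 2
  have h7 : 2 ^ j ≤ 2 ^ n := Nat.pow_le_pow_right (by norm_num) (by omega)
  omega

theorem pow_mod_modEq (n k : ℕ) : 2 ^ k ≡ 2 ^ (k % n) [MOD 2 ^ n - 1] := by
  conv_lhs => rw [← Nat.mod_add_div k n, pow_add, pow_mul]
  have h : 2 ^ n ≡ 1 [MOD 2 ^ n - 1] :=
    ((Nat.modEq_iff_dvd' Nat.one_le_two_pow).mpr dvd_rfl).symm
  simpa using (Nat.ModEq.refl (2 ^ (k % n))).mul (h.pow (k / n))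

theorem two_pow_add_inj {a b c e : ℕ} (h : 2 ^ a + 2 ^ b = 2 ^ c + 2 ^ e) :
    (a = c ∧ b = e) ∨ (a = e ∧ b = c) := by
  wlog hab : a ≤ b generalizing a b
  · rcases this (a := b) (b := a) (by omega) (by omega) with ⟨h1, h2⟩ | ⟨h1, h2⟩
    · exact Or.inr ⟨h2, h1⟩
    · exact Or.inl ⟨h2, h1⟩
  wlog hce : c ≤ e generalizing c e
  · exact (this (c := e) (e := c) (by omega) (by omega)).symm
  left
  by_cases h1 : a = b
  · subst h1
    by_cases h2 : c = e
    · subst h2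
      have : a = c := Nat.pow_right_injective le_rfl (show 2 ^ a = 2 ^ c by omega)
      exact ⟨this, this⟩
    · exfalso
      have hh : 2 ^ (a + 1) = 2 ^ c + 2 ^ e := by rw [pow_succ]; omega
      obtain ⟨t, rfl⟩ : ∃ t, e = c + (t + 1) := ⟨e - c - 1, by omega⟩
      rw [pow_add 2 c, ← mul_one_add] at hh
      obtain ⟨i, -, hi⟩ := (Nat.dvd_prime_pow Nat.prime_two).mp (hh ▸ Dvd.intro_left _ rfl :
        (1 + 2 ^ (t + 1)) ∣ 2 ^ (a + 1))
      rcases i with _ | i
      · have := Nat.one_le_two_pow (n := t + 1); omega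
      · rw [pow_succ, pow_succ] at hi; omega
  · by_cases h2 : c = e
    · subst h2
      exfalso
      have hh : 2 ^ (c + 1) = 2 ^ a + 2 ^ b := by rw [pow_succ]; omega
      obtain ⟨t, rfl⟩ : ∃ t, b = a + (t + 1) := ⟨b - a - 1, by omega⟩
      rw [pow_add 2 a, ← mul_one_add] at hh
      obtain ⟨i, -, hi⟩ := (Nat.dvd_prime_pow Nat.prime_two).mp (hh ▸ Dvd.intro_left _ rfl :
        (1 + 2 ^ (t + 1)) ∣ 2 ^ (c + 1))
      rcases i with _ | i
      · have := Nat.one_le_two_pow (n := t + 1); omega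
      · rw [pow_succ, pow_succ] at hi; omega
    · obtain ⟨t, rfl⟩ : ∃ t, b = a + (t + 1) := ⟨b - a - 1, by omega⟩
      obtain ⟨s, rfl⟩ : ∃ s, e = c + (s + 1) := ⟨e - c - 1, by omega⟩
      have hv : a = c := by
        by_contra hac
        rcases Nat.lt_or_gt_of_ne hac with hlt | hlt
        · obtain ⟨u, rfl⟩ : ∃ u, c = a + (u + 1) := ⟨c - a - 1, by omega⟩
          simp only [pow_add, mul_assoc] at h
          rw [← mul_one_add, ← Nat.mul_add] at h
          have := Nat.eq_of_mul_eq_mul_left (by positivity) h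
          simp only [pow_one] at this
          have h' := congrArg (· % 2) this
          simp [Nat.add_mod, Nat.mul_mod] at h'
        · obtain ⟨u, rfl⟩ : ∃ u, a = c + (u + 1) := ⟨a - c - 1, by omega⟩
          simp only [pow_add, mul_assoc] at h
          rw [← Nat.mul_add, ← mul_one_add] at h
          have := Nat.eq_of_mul_eq_mul_left (by positivity) h
          simp only [pow_one] at this
          have h' := congrArg (· % 2) this
          simp [Nat.add_mod, Nat.mul_mod] at h'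
      refine ⟨hv, ?_⟩
      subst hv
      have : a + (t + 1) = a + (s + 1) := Nat.pow_right_injective le_rfl (Nat.add_left_cancel h)
      exact this

/-- In the generic range congruences of sums of two powers are trivial. -/
theorem sums_inj {n m d a b c e : ℕ} (hbig : 4 * Nat.size d < n) (hd : 0 < d)
    (hmd : m * d = 2 ^ n - 1) (h : 2 ^ a + 2 ^ b ≡ 2 ^ c + 2 ^ e [MOD m]) :
    (a % n = c % n ∧ b % n = e % n) ∨ (a % n = e % n ∧ b % n = c % n) := by
  set l := Nat.size d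
  have hl : 0 < l := Nat.size_pos.mpr hd
  -- a rotation moving the four exponents away from the top
  obtain ⟨t, ht⟩ : ∃ t, ∀ x ∈ ({a, b, c, e} : Finset ℕ), (x + t) % n + l < n := by
    by_contra hcon
    push Not at hcon
    have hsub : Finset.range n ⊆ ({a, b, c, e} : Finset ℕ).biUnion
        fun x => (Finset.range l).image fun i => (2 * n - (i + 1) - x % n) % n := by
      intro t ht
      rw [Finset.mem_range] at ht
      obtain ⟨x, hx, hxt⟩ := hcon t
      have hr : (x + t) % n < n := Nat.mod_lt _ (by omega)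
      refine Finset.mem_biUnion.mpr ⟨x, hx, Finset.mem_image.mpr
        ⟨n - (x + t) % n - 1, Finset.mem_range.mpr (by omega), ?_⟩⟩
      have hxn : x % n < n := Nat.mod_lt _ (by omega)
      have e1 : (x + t) % n = (x % n + t) % n := by rw [Nat.mod_add_mod]
      rcases Nat.lt_or_ge (x % n + t) n with h' | h'
      · rw [Nat.mod_eq_of_lt h'] at e1
        rw [show 2 * n - (n - (x + t) % n - 1 + 1) - x % n = t + n by omega, Nat.add_mod_right,
          Nat.mod_eq_of_lt ht]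
      · rw [Nat.mod_eq_sub_mod h', Nat.mod_eq_of_lt (show x % n + t - n < n by omega)] at e1
        rw [show 2 * n - (n - (x + t) % n - 1 + 1) - x % n = t by omega, Nat.mod_eq_of_lt ht]
    have hc := Finset.card_le_card hsub
    rw [Finset.card_range] at hc
    have h1 := hc.trans (Finset.card_biUnion_le_card_mul _ _ l fun x _ =>
      Finset.card_image_le.trans (Finset.card_range l).le)
    have h2 : ({a, b, c, e} : Finset ℕ).card ≤ 4 := Finset.card_le_four
    have := Nat.mul_le_mul_right l h2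
    omega
  simp only [Finset.mem_insert, Finset.mem_singleton, forall_eq_or_imp, forall_eq] at ht
  obtain ⟨ha, hb, hc, he⟩ := ht
  set A := (a + t) % n
  set B := (b + t) % n
  set C := (c + t) % n
  set E := (e + t) % n
  have h2 : d * (2 ^ A + 2 ^ B) ≡ d * (2 ^ C + 2 ^ E) [MOD 2 ^ n - 1] := by
    have h1 : d * (2 ^ t * (2 ^ a + 2 ^ b)) ≡ d * (2 ^ t * (2 ^ c + 2 ^ e)) [MOD d * m] :=
      (h.mul_left _).mul_left' d
    rw [mul_comm d m, hmd] at h1
    have hpow : ∀ x y, d * (2 ^ ((x + t) % n) + 2 ^ ((y + t) % n))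
        ≡ d * (2 ^ t * (2 ^ x + 2 ^ y)) [MOD 2 ^ n - 1] := fun x y => by
      rw [Nat.mul_add (2 ^ t), ← pow_add, ← pow_add, add_comm t x, add_comm t y]
      exact (((pow_mod_modEq n (x + t)).add (pow_mod_modEq n (y + t))).mul_left d).symm
    exact ((hpow a b).trans h1).trans (hpow c e).symm
  have hsmall : ∀ x y, x + l < n → y + l < n → d * (2 ^ x + 2 ^ y) < 2 ^ n - 1 := by
    intro x y hx hy
    obtain ⟨k, hk⟩ : ∃ k, n = l + 1 + k := ⟨n - l - 1, by omega⟩
    have h3 : 2 ^ x ≤ 2 ^ k := Nat.pow_le_pow_right (by norm_num) (by omega)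
    have h4 : 2 ^ y ≤ 2 ^ k := Nat.pow_le_pow_right (by norm_num) (by omega)
    have h5 : d + 1 ≤ 2 ^ l := Nat.lt_size_self d
    have h6 : d * (2 ^ x + 2 ^ y) ≤ d * (2 * 2 ^ k) := Nat.mul_le_mul_left d (by omega)
    have h7 : (d + 1) * (2 * 2 ^ k) ≤ 2 ^ l * (2 * 2 ^ k) := Nat.mul_le_mul_right _ h5
    rw [show 2 ^ l * (2 * 2 ^ k) = 2 ^ n by rw [hk, pow_add, pow_succ]; ring, add_mul, one_mul] at h7
    have := Nat.one_le_two_pow (n := k)
    omega
  have heq := Nat.eq_of_mul_eq_mul_left hd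
    (Nat.ModEq.eq_of_lt_of_lt h2 (hsmall A B ha hb) (hsmall C E hc he))
  have back : ∀ x y : ℕ, (x + t) % n = (y + t) % n → x % n = y % n := fun x y hxy =>
    Nat.ModEq.add_right_cancel' t hxy
  rcases two_pow_add_inj heq with ⟨h1, h2⟩ | ⟨h1, h2⟩
  · exact Or.inl ⟨back _ _ h1, back _ _ h2⟩
  · exact Or.inr ⟨back _ _ h1, back _ _ h2⟩

set_option synthInstance.maxSize 2048 in
theorem small_list : ∀ n < 25, ∀ d < 25, 2 ≤ n → d ∣ n → d ∣ 2 ^ n - 1 → n ≤ 4 * Nat.size d →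
    (n = 2 ∧ d = 1) ∨ (n = 3 ∧ d = 1) ∨ (n = 4 ∧ d = 1) ∨ (n = 6 ∧ d = 3) := by
  decide +kernel

theorem small_cases {n m d : ℕ} (hn : 2 ≤ n) (hmd : m * d = 2 ^ n - 1) (hdn : d ∣ n)
    (hs : n ≤ 4 * Nat.size d) :
    (n = 2 ∧ m = 3) ∨ (n = 3 ∧ m = 7) ∨ (n = 4 ∧ m = 15) ∨ (n = 6 ∧ m = 21) := by
  have hd : d ≤ n := Nat.le_of_dvd (by omega) hdn
  have hlt : n < 25 := by
    by_contra h
    have h7 : 7 ≤ Nat.size d := by omega
    have hp : 2 ^ (Nat.size d - 1) ≤ d := Nat.lt_size.mp (by omega)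
    obtain ⟨k, hk⟩ : ∃ k, Nat.size d = k + 7 := ⟨Nat.size d - 7, by omega⟩
    rw [hk, show k + 7 - 1 = k + 6 from rfl, pow_add] at hp
    have hk2 : k < 2 ^ k := Nat.lt_two_pow_self
    omega
  rcases small_list n hlt d (by omega) hn hdn (hmd ▸ dvd_mul_left d m) hs with
    ⟨rfl, rfl⟩ | ⟨rfl, rfl⟩ | ⟨rfl, rfl⟩ | ⟨rfl, rfl⟩ <;> simp at hmd <;> omega

set_option synthInstance.maxSize 2048 in
theorem diag_small : ∀ p ∈ [(2, 3), (3, 7), (4, 15), (6, 21)], ∀ i < p.1, ∀ j < p.1,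
    (2 ^ i + 2 ^ j) % p.2 = 1 % p.2 → i = j := by
  decide +kernel

/-- Two distinct powers of two do not add up to `1`. -/
theorem eq_of_sum_one {n m d i j : ℕ} (hn : 2 ≤ n) (hmd : m * d = 2 ^ n - 1) (hdn : d ∣ n)
    (hi : i < n) (hj : j < n) (h : 2 ^ i + 2 ^ j ≡ 1 [MOD m]) : i = j := by
  by_cases hs : n ≤ 4 * Nat.size d
  · rcases small_cases hn hmd hdn hs with ⟨rfl, rfl⟩ | ⟨rfl, rfl⟩ | ⟨rfl, rfl⟩ | ⟨rfl, rfl⟩
    all_goals first
      | exact diag_small (2, 3) (by simp) i hi j hj h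
      | exact diag_small (3, 7) (by simp) i hi j hj h
      | exact diag_small (4, 15) (by simp) i hi j hj h
      | exact diag_small (6, 21) (by simp) i hi j hj h
  · have hd : 0 < d := Nat.pos_of_dvd_of_pos hdn (by omega)
    have h2 : 2 ^ i + 2 ^ j ≡ 2 ^ (n - 1) + 2 ^ (n - 1) [MOD m] := by
      refine h.trans ?_
      rw [← two_mul, ← pow_succ', show n - 1 + 1 = n by omega]
      exact (((Nat.modEq_iff_dvd' Nat.one_le_two_pow).mpr dvd_rfl).of_dvd (hmd ▸ dvd_mul_right m d))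
    rcases sums_inj (by omega) hd hmd h2 with ⟨h1, h2⟩ | ⟨h1, h2⟩ <;>
      rw [Nat.mod_eq_of_lt hi, Nat.mod_eq_of_lt (by omega : n - 1 < n)] at h1 <;>
      rw [Nat.mod_eq_of_lt hj, Nat.mod_eq_of_lt (by omega : n - 1 < n)] at h2 <;> omega

set_option synthInstance.maxSize 2048 in
theorem four_small : ∀ p ∈ [(2, 3), (3, 7), (4, 15), (6, 21)], ∀ r < p.1, ∀ s < p.1, ∀ k < p.1,
    Nat.Coprime (2 ^ r - 1) p.2 → Nat.Coprime (2 ^ s - 1) p.2 →
    (2 ^ k + 2 ^ s) % p.2 = (1 + 2 ^ ((r + k) % p.1)) % p.2 → r = s := by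
  decide +kernel

/-- The twisting characters are pairwise non-conjugate. -/
theorem eq_of_conjugate {n m d r s k : ℕ} (hn : 2 ≤ n) (hmd : m * d = 2 ^ n - 1) (hdn : d ∣ n)
    (hr : r < n) (hs : s < n) (hk : k < n) (hcr : Nat.Coprime (2 ^ r - 1) m)
    (hcs : Nat.Coprime (2 ^ s - 1) m)
    (h : 2 ^ k + 2 ^ s ≡ 1 + 2 ^ ((r + k) % n) [MOD m]) : r = s := by
  by_cases hsm : n ≤ 4 * Nat.size d
  · rcases small_cases hn hmd hdn hsm with ⟨rfl, rfl⟩ | ⟨rfl, rfl⟩ | ⟨rfl, rfl⟩ | ⟨rfl, rfl⟩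
    all_goals first
      | exact four_small (2, 3) (by simp) r hr s hs k hk hcr hcs h
      | exact four_small (3, 7) (by simp) r hr s hs k hk hcr hcs h
      | exact four_small (4, 15) (by simp) r hr s hs k hk hcr hcs h
      | exact four_small (6, 21) (by simp) r hr s hs k hk hcr hcs h
  · have hd : 0 < d := Nat.pos_of_dvd_of_pos hdn (by omega)
    have hs0 : s ≠ 0 := by
      rintro rfl
      rw [pow_zero, Nat.sub_self, Nat.coprime_zero_left] at hcs
      exact not_dvd_sub (g := 1) hn hmd hdn (by omega) one_pos (by rw [hcs]; exact one_dvd _)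
    have h2 : 2 ^ k + 2 ^ s ≡ 2 ^ 0 + 2 ^ ((r + k) % n) [MOD m] := by simpa using h
    rcases sums_inj (by omega) hd hmd h2 with ⟨h1, h3⟩ | ⟨-, h3⟩
    · rw [Nat.mod_eq_of_lt hk, Nat.zero_mod] at h1
      rw [Nat.mod_eq_of_lt hs, Nat.mod_mod, h1, add_zero, Nat.mod_eq_of_lt hr] at h3
      exact h3.symm
    · rw [Nat.mod_eq_of_lt hs, Nat.zero_mod] at h3
      exact absurd h3 hs0

end CfsgLib.SolvTrans
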