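import Cfsg.Agent.Lib.PGroup.SuzukiField
import Cfsg.Agent.Lib.PGroup.SolvTrans.Arith

/-!
# Twisted families over a large group of scalars

A group `M` of scalars of a field with `2 ^ n` elements is large if `2 ^ n - 1` divides `|M| * n`; this
is what a solvable transitive semilinear group leaves of the multiplicative group. Equivariant
alternating pairings vanish and irreducible twisted families consist of monomials.
-/

set_option autoImplicit false
set_option linter.unusedSectionVars false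

namespace CfsgLib.SolvTrans

open CfsgLib.SuzukiField

variable {F : Type*} [Field F] [Finite F] {n : ℕ} {M : Subgroup Fˣ}

/-- `M` is a large group of scalars. -/
structure Large (n : ℕ) (M : Subgroup Fˣ) : Prop where
  card : Nat.card F = 2 ^ n
  two_le : 2 ≤ n
  dvd : 2 ^ n - 1 ∣ Nat.card M * n

namespace Large

theorem exists_index (hM : Large n M) : ∃ d, Nat.card M * d = 2 ^ n - 1 ∧ d ∣ n := by
  obtain ⟨d, hd⟩ : Nat.card M ∣ 2 ^ n - 1 := by
    have h := Subgroup.card_subgroup_dvd_card M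
    rwa [Nat.card_units, hM.card] at h
  exact ⟨d, hd.symm, Nat.dvd_of_mul_dvd_mul_left Nat.card_pos (hd ▸ hM.dvd)⟩

theorem coprime_full (hM : Large n M) {k : ℕ} (h : Nat.Coprime k (Nat.card M)) :
    Nat.Coprime k (2 ^ n - 1) := by
  obtain ⟨d, hd, hdn⟩ := hM.exists_index
  exact SolvTrans.coprime_full (by have := hM.two_le; omega) hd hdn h

theorem card_ne_one (hM : Large n M) : Nat.card M ≠ 1 := by
  obtain ⟨d, hd, hdn⟩ := hM.exists_index
  intro h
  exact not_dvd_sub (g := 1) hM.two_le hd hdn (by have := hM.two_le; omega) one_pos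
    (by rw [h]; exact one_dvd _)

theorem exists_gen (hM : Large n M) : ∃ g ∈ M, orderOf g = Nat.card M := by
  obtain ⟨g, hg⟩ := IsCyclic.exists_generator (α := M)
  exact ⟨g, g.2, by rw [Subgroup.orderOf_coe]; exact orderOf_eq_card_of_forall_mem_zpowers hg⟩

theorem modEq_of_pow_eq (hM : Large n M) {a b : ℕ}
    (h : ∀ μ ∈ M, (μ : F) ^ a = (μ : F) ^ b) : a ≡ b [MOD Nat.card M] := by
  obtain ⟨g, hg, ho⟩ := hM.exists_gen
  rw [← ho, ← pow_eq_pow_iff_modEq]
  exact Units.ext (by rw [Units.val_pow_eq_pow_val, Units.val_pow_eq_pow_val]; exact h g hg)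

/-- The scalars span the field. -/
theorem closure_eq_top (hM : Large n M) :
    AddSubgroup.closure ((fun μ : Fˣ => (μ : F)) '' (M : Set Fˣ)) = ⊤ := by
  set S := AddSubgroup.closure ((fun μ : Fˣ => (μ : F)) '' (M : Set Fˣ)) with hS
  have h1 : (1 : F) ∈ S := AddSubgroup.subset_closure ⟨1, M.one_mem, rfl⟩
  have hmul : ∀ a ∈ S, ∀ b ∈ S, a * b ∈ S := by
    intro a ha b hb
    induction hb using AddSubgroup.closure_induction with
    | mem y hy =>
      obtain ⟨ν, hν, rfl⟩ := hy
      induction ha using AddSubgroup.closure_induction with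
      | mem x hx =>
        obtain ⟨μ, hμ, rfl⟩ := hx
        exact AddSubgroup.subset_closure ⟨μ * ν, M.mul_mem hμ hν, rfl⟩
      | zero => rw [zero_mul]; exact S.zero_mem
      | add x y _ _ hx hy => rw [add_mul]; exact S.add_mem hx hy
      | neg x _ hx => rw [neg_mul]; exact S.neg_mem hx
    | zero => rw [mul_zero]; exact S.zero_mem
    | add x y _ _ hx hy => rw [mul_add]; exact S.add_mem hx hy
    | neg x _ hx => rw [mul_neg]; exact S.neg_mem hx
  let R : Subring F := { S with mul_mem' := fun {a b} ha hb => hmul a ha b hb, one_mem' := h1 }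
  by_contra hne
  obtain ⟨d, hd, hdn⟩ := hM.exists_index
  haveI : Finite R := Subtype.finite
  letI : Field R := (Finite.isDomain_to_isField R).toField
  haveI := Fintype.ofFinite F
  haveI := Fintype.ofFinite R
  have hcard := Module.natCard_eq_pow_finrank (K := R) (V := F)
  set k := Module.finrank R F
  have hk0 : 0 < k := Module.finrank_pos
  have hk : k ≠ 1 := by
    intro hk
    rw [hk, pow_one] at hcard
    refine hne (eq_top_iff.mpr fun x _ => ?_)
    have := Set.eq_of_subset_of_ncard_le (Set.subset_univ (R : Set F)) (by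
      rw [Set.ncard_univ, hcard, ← Nat.card_coe_set_eq]; rfl) (Set.toFinite _)
    exact (this ▸ Set.mem_univ x : x ∈ (R : Set F))
  rw [hM.card] at hcard
  obtain ⟨g, -, hg⟩ := (Nat.dvd_prime_pow Nat.prime_two).mp
    (hcard ▸ dvd_pow_self _ hk0.ne' : Nat.card R ∣ 2 ^ n)
  rw [hg, ← pow_mul] at hcard
  have hgk : n = g * k := Nat.pow_right_injective le_rfl hcard
  have hg0 : 0 < g := Nat.pos_of_ne_zero fun h => by subst h; have := hM.two_le; simp at hgk; omega
  refine not_dvd_sub hM.two_le hd hdn (g := g) ?_ hg0 ?_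
  · rw [hgk, mul_comm 2 g]
    exact Nat.mul_le_mul_left g (by omega)
  · let f : M →* Rˣ :=
      { toFun := fun μ =>
          ⟨⟨(μ : Fˣ), AddSubgroup.subset_closure ⟨μ, μ.2, rfl⟩⟩,
           ⟨((μ⁻¹ : M) : Fˣ), AddSubgroup.subset_closure ⟨_, (μ⁻¹).2, rfl⟩⟩,
           Subtype.ext (by simp), Subtype.ext (by simp)⟩
        map_one' := Units.ext (Subtype.ext rfl)
        map_mul' := fun a b => Units.ext (Subtype.ext rfl) }
    have hf : Function.Injective f := fun a b h => Subtype.ext (Units.ext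
      (congrArg (fun u : Rˣ => ((u : R) : F)) h))
    have := Subgroup.card_dvd_of_injective f hf
    rwa [Nat.card_units, hg] at this

theorem units_eq_one (hM : Large n M) {r : ℕ} (h : Nat.Coprime (2 ^ r - 1) (Nat.card M)) {v : Fˣ}
    (hv : v ^ 2 ^ r = v) : v = 1 := by
  have h1 : v ^ (2 ^ r - 1) = 1 := by
    apply mul_right_cancel (b := v)
    rw [← pow_succ, Nat.sub_add_cancel Nat.one_le_two_pow, hv, one_mul]
  have h2 : v ^ (2 ^ n - 1) = 1 := by
    rw [← hM.card, ← Nat.card_units]; exact pow_card_eq_one'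
  have h3 : v ^ Nat.gcd (2 ^ r - 1) (2 ^ n - 1) = 1 := pow_gcd_eq_one.mpr ⟨h1, h2⟩
  rwa [hM.coprime_full h, pow_one] at h3

variable [CharP F 2]

/-- An equivariant alternating pairing is trivial. -/
theorem pairing_zero (hM : Large n M) (B : F → F → F)
    (hl : ∀ u u' v, B (u + u') v = B u v + B u' v) (hr : ∀ u v v', B u (v + v') = B u v + B u v')
    (halt : ∀ u, B u u = 0)
    (heq : ∀ μ ∈ M, ∀ u v, B ((μ : F) * u) ((μ : F) * v) = (μ : F) * B u v) :
    ∀ u v, B u v = 0 := by
  classical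
  have hq := hM.card
  obtain ⟨d, hd, hdn⟩ := hM.exists_index
  let co : (F →+ F) → Fin n → F := Function.invFun (lin (F := F) (n := n))
  have hco : ∀ f v, f v = ∑ i, co f i * v ^ 2 ^ i.val := fun f v => by
    conv_lhs => rw [← Function.invFun_eq ((lin_bijective hq).2 f)]
    rfl
  let Bu : F → F →+ F := fun u => AddMonoidHom.mk' (B u) (hr u)
  let γ : Fin n → F →+ F := fun j => AddMonoidHom.mk' (fun u => co (Bu u) j) fun u u' => by
    refine sub_eq_zero.1 (coeff_unique hq
      (c := fun j => co (Bu (u + u')) j - (co (Bu u) j + co (Bu u') j)) (fun v => ?_) j)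
    simp only [sub_mul, add_mul, Finset.sum_sub_distrib, Finset.sum_add_distrib, ← hco]
    show B (u + u') v - (B u v + B u' v) = 0
    rw [hl, sub_self]
  let c : Fin n → Fin n → F := fun i j => co (γ j) i
  have hexp : ∀ u v, B u v = ∑ j, (∑ i, c i j * u ^ 2 ^ i.val) * v ^ 2 ^ j.val := by
    intro u v
    show Bu u v = _
    rw [hco]
    exact Finset.sum_congr rfl fun j _ => by rw [← hco (γ j) u]; rfl
  have key : ∀ μ ∈ M, ∀ i j, c i j * ((μ : F) ^ 2 ^ i.val * (μ : F) ^ 2 ^ j.val) = (μ : F) * c i j := by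
    intro μ hμ i j
    have hj : ∀ u, ∀ j, (∑ i, c i j * ((μ : F) * u) ^ 2 ^ i.val) * (μ : F) ^ 2 ^ j.val
        = (μ : F) * ∑ i, c i j * u ^ 2 ^ i.val := by
      intro u j
      refine sub_eq_zero.1 (coeff_unique hq (c := fun j =>
        (∑ i, c i j * ((μ : F) * u) ^ 2 ^ i.val) * (μ : F) ^ 2 ^ j.val
          - (μ : F) * ∑ i, c i j * u ^ 2 ^ i.val) (fun v => ?_) j)
      have h := heq μ hμ u v
      rw [hexp, hexp, Finset.mul_sum] at h
      simp only [sub_mul, Finset.sum_sub_distrib]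
      rw [sub_eq_zero]
      calc _ = ∑ j, (∑ i, c i j * ((μ : F) * u) ^ 2 ^ i.val) * ((μ : F) * v) ^ 2 ^ j.val :=
            Finset.sum_congr rfl fun j _ => by rw [mul_pow (μ : F) v]; ring
        _ = _ := by rw [h]; exact Finset.sum_congr rfl fun j _ => by ring
    refine sub_eq_zero.1 (coeff_unique hq (c := fun i =>
      c i j * ((μ : F) ^ 2 ^ i.val * (μ : F) ^ 2 ^ j.val) - (μ : F) * c i j) (fun u => ?_) i)
    simp only [sub_mul, Finset.sum_sub_distrib]
    rw [sub_eq_zero]
    calc _ = (∑ i, c i j * ((μ : F) * u) ^ 2 ^ i.val) * (μ : F) ^ 2 ^ j.val := by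
          rw [Finset.sum_mul]; exact Finset.sum_congr rfl fun i _ => by rw [mul_pow]; ring
      _ = _ := by rw [hj, Finset.mul_sum]; exact Finset.sum_congr rfl fun i _ => by ring
  have hdiag : ∀ i j, i ≠ j → c i j = 0 := by
    intro i j hij
    by_contra hc
    refine hij (Fin.ext (eq_of_sum_one hM.two_le hd hdn i.isLt j.isLt (hM.modEq_of_pow_eq fun μ hμ => ?_)))
    rw [pow_add, pow_one]
    exact mul_left_cancel₀ hc (by rw [key μ hμ i j]; ring)
  have hB : ∀ u v, B u v = ∑ i, c i i * (u * v) ^ 2 ^ i.val := by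
    intro u v
    rw [hexp]
    refine Finset.sum_congr rfl fun j _ => ?_
    rw [Finset.sum_eq_single j (fun i _ h => by rw [hdiag i j h, zero_mul]) (by simp), mul_pow]
    ring
  haveI : Finite F := inferInstance
  have hz : ∀ i, c i i = 0 := fun i => coeff_unique hq (c := fun i => c i i) (fun x => by
    obtain ⟨t, ht⟩ := (Finite.surjective_of_injective (f := fun t : F => t * t)
      (fun a b h => CharTwo.sq_injective (by simpa [pow_two] using h))) x
    rw [← ht, ← hB]
    exact halt t) i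
  intro u v
  rw [hB]
  simp [hz]

/-- An irreducible fixed-point-free family, stable under twisting by a large group of scalars, consists
of monomials: its nonzero members are injective and fix at most one nonzero element. -/
theorem twisted_family (hM : Large n M) (N : AddSubgroup (F →+ F))
    (cj : Fˣ → (F →+ F) → (F →+ F))
    (hcj : ∀ μ f v, cj μ f v = (μ : F) * f (((μ⁻¹ : Fˣ) : F) * v))
    (hinv : ∀ μ ∈ M, ∀ f ∈ N, cj μ f ∈ N)
    (hirr : ∀ N' : AddSubgroup (F →+ F), N' ≤ N → (∀ μ ∈ M, ∀ f ∈ N', cj μ f ∈ N') → N' = ⊥ ∨ N' = N)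
    (hfpf : ∀ μ ∈ M, ∀ f ∈ N, f ≠ 0 → cj μ f = f → μ = 1) :
    ∀ f ∈ N, f ≠ 0 → (∀ v, f v = 0 → v = 0) ∧
      ∀ v w, v ≠ 0 → w ≠ 0 → f v = v → f w = w → v = w := by
  classical
  intro f₀ hf₀ hf₀0
  have hq := hM.card
  obtain ⟨d₀, hd₀, hd₀n⟩ := hM.exists_index
  let co : (F →+ F) → Fin n → F := Function.invFun (lin (F := F) (n := n))
  have hco : ∀ f v, f v = ∑ i, co f i * v ^ 2 ^ i.val := fun f v => by
    conv_lhs => rw [← Function.invFun_eq ((lin_bijective hq).2 f)]
    rfl
  have hcou : ∀ f c, (∀ v, f v = ∑ i, c i * v ^ 2 ^ i.val) → co f = c := fun f c h =>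
    (lin_bijective hq).1 (AddMonoidHom.ext fun v => (hco f v).symm.trans (h v))
  let χ : ℕ → Fˣ →* Fˣ := fun i => MonoidHom.id Fˣ / powMonoidHom (2 ^ i)
  have hχ : ∀ i μ, (χ i μ : F) * (μ : F) ^ 2 ^ i = μ := fun i μ => by
    rw [← Units.val_pow_eq_pow_val, ← Units.val_mul]
    simp [χ]
  have hχv : ∀ i μ, (χ i μ : F) = (μ : F) * ((μ⁻¹ : Fˣ) : F) ^ 2 ^ i := fun i μ => by
    rw [← Units.val_pow_eq_pow_val, ← Units.val_mul]
    simp [χ, div_eq_mul_inv]
  have hcoadd : ∀ f g, co (f + g) = co f + co g := fun f g => hcou _ _ fun v => by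
    simp [hco f v, hco g v, add_mul, Finset.sum_add_distrib]
  have hco0 : co 0 = 0 := hcou _ _ fun v => by simp
  have hcoc : ∀ μ f (i : Fin n), co (cj μ f) i = (χ i.val μ : F) * co f i := fun μ f i => by
    rw [hcou (cj μ f) (fun i => (χ i.val μ : F) * co f i) fun v => by
      rw [hcj, hco, Finset.mul_sum]
      exact Finset.sum_congr rfl fun i _ => by rw [hχv, mul_pow]; ring]
  have hcosub : ∀ f g r, co (f - g) r = co f r - co g r := fun f g r => by
    have := congrFun (hcoadd (f - g) g) r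
    rw [sub_add_cancel, Pi.add_apply] at this
    exact eq_sub_of_add_eq this.symm
  -- active coordinates
  have hproj : ∀ r : Fin n, co f₀ r ≠ 0 →
      (∀ f ∈ N, co f r = 0 → f = 0) ∧ Nat.Coprime (2 ^ r.val - 1) (Nat.card M) := by
    intro r hr
    have h1 : ∀ f ∈ N, co f r = 0 → f = 0 := by
      let N' : AddSubgroup (F →+ F) :=
        { carrier := {f | f ∈ N ∧ co f r = 0}
          zero_mem' := ⟨N.zero_mem, by rw [hco0]; rfl⟩
          add_mem' := fun {a b} ha hb => ⟨N.add_mem ha.1 hb.1, by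
            rw [hcoadd, Pi.add_apply, ha.2, hb.2, add_zero]⟩
          neg_mem' := fun {a} ha => ⟨N.neg_mem ha.1, by
            rw [← zero_sub, hcosub, hco0, ha.2, Pi.zero_apply, sub_zero]⟩ }
      have hN : N' = ⊥ := by
        refine (hirr N' (fun f hf => hf.1) fun μ hμ f hf =>
          ⟨hinv μ hμ f hf.1, by rw [hcoc, hf.2, mul_zero]⟩).resolve_right fun h => hr ?_
        exact (h ▸ hf₀ : f₀ ∈ N').2
      intro f hf h0
      have : f ∈ N' := ⟨hf, h0⟩
      rwa [hN, AddSubgroup.mem_bot] at this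
    refine ⟨h1, Nat.coprime_of_dvd fun p hp hpr hpm => ?_⟩
    haveI := Fact.mk hp
    obtain ⟨⟨μ, hμ⟩, ho⟩ := exists_prime_orderOf_dvd_card' (G := M) p hpm
    have ho' : orderOf μ = p := by rw [← ho]; exact Subgroup.orderOf_coe ⟨μ, hμ⟩
    have hχ1 : χ r.val μ = 1 := by
      have : μ ^ 2 ^ r.val = μ := by
        rw [← Nat.sub_add_cancel (Nat.one_le_two_pow (n := r.val)), pow_succ,
          orderOf_dvd_iff_pow_eq_one.mp (ho'.symm ▸ hpr), one_mul]
      simp [χ, this]
    have hμ1 : μ = 1 := hfpf μ hμ f₀ hf₀ hf₀0 (sub_eq_zero.1 (h1 _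
      (N.sub_mem (hinv μ hμ f₀ hf₀) hf₀) (by rw [hcosub, hcoc, hχ1, Units.val_one, one_mul, sub_self])))
    rw [hμ1, orderOf_one] at ho'
    exact hp.one_lt.ne ho'
  -- only one coordinate is active
  have huniq : ∀ r s, co f₀ r ≠ 0 → co f₀ s ≠ 0 → r = s := by
    intro r s hr hs
    obtain ⟨hr1, hr2⟩ := hproj r hr
    obtain ⟨-, hs2⟩ := hproj s hs
    have hχM : ∀ μ ∈ M, χ r.val μ ∈ M := fun μ hμ => M.div_mem hμ (M.pow_mem hμ _)
    let χM : M → M := fun μ => ⟨χ r.val μ, hχM μ μ.2⟩
    have hsurj : Function.Surjective χM := by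
      refine Finite.surjective_of_injective fun a b h => Subtype.ext ?_
      have h1 : χ r.val ((a : Fˣ) * (b : Fˣ)⁻¹) = 1 := by
        rw [map_mul, map_inv, show χ r.val a = χ r.val b from congrArg Subtype.val h, mul_inv_cancel]
      exact mul_inv_eq_one.mp (hM.units_eq_one hr2 (div_eq_one.mp (show _ / _ = 1 from h1)).symm)
    let S : AddSubgroup F :=
      { carrier := {x | ∃ f ∈ N, co f r = x * co f₀ r}
        zero_mem' := ⟨0, N.zero_mem, by rw [hco0, zero_mul]; rfl⟩
        add_mem' := by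
          rintro x y ⟨f, hf, hfx⟩ ⟨g, hg, hgy⟩
          exact ⟨f + g, N.add_mem hf hg, by rw [hcoadd, Pi.add_apply, hfx, hgy, add_mul]⟩
        neg_mem' := by
          rintro x ⟨f, hf, hfx⟩
          exact ⟨-f, N.neg_mem hf, by
            rw [← zero_sub, hcosub, hco0, hfx, Pi.zero_apply, zero_sub, neg_mul]⟩ }
    have hmem : ∀ x : F, x ∈ S := by
      intro x
      have hle : AddSubgroup.closure ((fun μ : Fˣ => (μ : F)) '' (M : Set Fˣ)) ≤ S := by
        rw [AddSubgroup.closure_le]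
        rintro _ ⟨ν, hν, rfl⟩
        obtain ⟨⟨μ, hμ⟩, h⟩ := hsurj ⟨ν, hν⟩
        have h' : χ r.val μ = ν := congrArg Subtype.val h
        exact ⟨cj μ f₀, hinv μ hμ f₀ hf₀, by rw [hcoc, h']⟩
      rw [hM.closure_eq_top] at hle
      exact hle (AddSubgroup.mem_top x)
    choose mk hmkN hmk using hmem
    have hdet : ∀ f ∈ N, ∀ g ∈ N, co f r = co g r → f = g := fun f hf g hg h =>
      sub_eq_zero.1 (hr1 _ (N.sub_mem hf hg) (by rw [hcosub, h, sub_self]))
    let g : F →+ F := AddMonoidHom.mk' (fun x => co (mk x) s / co f₀ s) fun x y => by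
      rw [hdet _ (hmkN (x + y)) _ (N.add_mem (hmkN x) (hmkN y)) (by
        rw [hcoadd, Pi.add_apply, hmk, hmk, hmk, add_mul]), hcoadd, Pi.add_apply, add_div]
    have hgtw : ∀ μ ∈ M, ∀ y, g ((χ r.val μ : F) * y) = (χ s.val μ : F) * g y := by
      intro μ hμ y
      show co (mk _) s / co f₀ s = (χ s.val μ : F) * (co (mk y) s / co f₀ s)
      rw [hdet _ (hmkN _) _ (hinv μ hμ _ (hmkN y)) (by rw [hmk, hcoc, hmk]; ring), hcoc, mul_div_assoc]
    have hg1 : g 1 = 1 := by
      show co (mk 1) s / co f₀ s = 1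
      rw [hdet _ (hmkN 1) _ hf₀ (by rw [hmk, one_mul]), div_self hs]
    have hgmul : ∀ x y, g (x * y) = g x * g y := by
      intro x y
      have hx : x ∈ AddSubgroup.closure ((fun μ : Fˣ => (μ : F)) '' (M : Set Fˣ)) := by
        rw [hM.closure_eq_top]; exact AddSubgroup.mem_top x
      induction hx using AddSubgroup.closure_induction with
      | mem z hz =>
        obtain ⟨ν, hν, rfl⟩ := hz
        obtain ⟨⟨μ, hμ⟩, h⟩ := hsurj ⟨ν, hν⟩
        have h' : χ r.val μ = ν := congrArg Subtype.val h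
        have h1 := hgtw μ hμ 1
        rw [mul_one, hg1, mul_one, h'] at h1
        have h2 := hgtw μ hμ y
        rw [h'] at h2
        show g ((ν : F) * y) = g (ν : F) * g y
        rw [h2, h1]
      | zero => simp
      | add a b _ _ ha hb => rw [add_mul, map_add, map_add, ha, hb, add_mul]
      | neg a _ ha => rw [neg_mul, map_neg, map_neg, ha, neg_mul]
    obtain ⟨k, hk⟩ := eq_frobenius hq g hgmul hg1
    refine Fin.ext (eq_of_conjugate hM.two_le hd₀ hd₀n r.isLt s.isLt k.isLt hr2 hs2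
      (hM.modEq_of_pow_eq fun μ hμ => ?_))
    have h1 : (χ s.val μ : F) = (χ r.val μ : F) ^ 2 ^ k.val := by
      have := hgtw μ hμ 1
      rw [mul_one, hg1, mul_one, hk] at this
      exact this.symm
    have h2 := congrArg (fun t : F => t ^ 2 ^ k.val) (hχ r.val μ)
    simp only [mul_pow, ← pow_mul, ← pow_add] at h2
    rw [← h1] at h2
    rw [pow_add, pow_add, pow_one, pow_mod_eq hq]
    calc (μ : F) ^ 2 ^ k.val * (μ : F) ^ 2 ^ s.val
        = ((χ s.val μ : F) * (μ : F) ^ 2 ^ s.val) * (μ : F) ^ 2 ^ (r.val + k.val) := by rw [← h2]; ring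
      _ = (μ : F) * (μ : F) ^ 2 ^ (r.val + k.val) := by rw [hχ]
  -- conclusion
  obtain ⟨r, hr⟩ : ∃ r, co f₀ r ≠ 0 := by
    by_contra h
    push Not at h
    exact hf₀0 (AddMonoidHom.ext fun v => by simp [hco f₀ v, h])
  have hform : ∀ v, f₀ v = co f₀ r * v ^ 2 ^ r.val := by
    intro v
    rw [hco f₀ v]
    refine Finset.sum_eq_single r (fun i _ hi => ?_) (by simp)
    have : co f₀ i = 0 := by
      by_contra h; exact hi (huniq i r h hr)
    rw [this, zero_mul]
  refine ⟨fun v hv => ?_, fun v w hv hw hfv hfw => ?_⟩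
  · rw [hform, mul_eq_zero] at hv
    exact eq_zero_of_pow_eq_zero (hv.resolve_left hr)
  · have key : ∀ (t : F) (ht : t ≠ 0), f₀ t = t → (χ r.val (Units.mk0 t ht) : F) = co f₀ r := by
      intro t ht h
      rw [hform] at h
      exact mul_right_cancel₀ (pow_ne_zero (2 ^ r.val) ht) ((hχ r.val (Units.mk0 t ht)).trans h.symm)
    have h1 : χ r.val (Units.mk0 v hv / Units.mk0 w hw) = 1 := by
      rw [map_div, div_eq_one]
      exact Units.ext ((key v hv hfv).trans (key w hw hfw).symm)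
    have h2 := hM.units_eq_one (hproj r hr).2 (div_eq_one.mp (show _ / _ = 1 from h1)).symm
    exact congrArg (fun u : Fˣ => (u : F)) (div_eq_one.mp h2)

end Large

end CfsgLib.SolvTrans
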