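import Cfsg.Agent.Lib.PGroup.SolvTrans.Quotient
import Cfsg.Agent.S3360
import Cfsg.Agent.Lib.Critical.Basic
import Cfsg.Agent.Lib.PSolvable.Omega

/-!
# Solvable groups of automorphisms transitive on the involutions

A solvable group of automorphisms of a `2`-group transitive on at least two involutions contains a
large group of scalars: by Huppert's theorem it is semilinear on the involutions.
-/

set_option autoImplicit false
set_option linter.style.haveILetI false
set_option linter.unusedSectionVars false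

namespace CfsgLib.SolvTrans

theorem card_ringAut {F : Type*} [Field F] [Finite F] [CharP F 2] {n : ℕ} (hq : Nat.card F = 2 ^ n) :
    Nat.card (F ≃+* F) = n := by
  haveI : Fact (Nat.Prime 2) := ⟨Nat.prime_two⟩
  let f : Fin n → (F ≃+* F) := fun i => iterateFrobeniusEquiv F 2 i.val
  have hf : Function.Injective f := fun i j h => SuzukiField.fr_injective hq fun x => by
    have := RingEquiv.congr_fun h x
    exact (iterateFrobeniusEquiv_def F 2 i.val x).symm.trans (this.trans (iterateFrobeniusEquiv_def F 2 j.val x))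
  have hs : Function.Surjective f := fun σ => by
    obtain ⟨d, hd⟩ := SuzukiField.eq_frobenius hq σ.toRingHom.toAddMonoidHom (map_mul σ) (map_one σ)
    exact ⟨d, RingEquiv.ext fun x => by
      exact (iterateFrobeniusEquiv_def F 2 d.val x).trans (hd x).symm⟩
  rw [← Nat.card_congr (Equiv.ofBijective f ⟨hf, hs⟩), Nat.card_fin]

/-- A semilinear group transitive on the nonzero elements of a field contains a large group of scalars. -/
theorem exists_scalars {F : Type*} [Field F] [Finite F] [CharP F 2] {n : ℕ}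
    (hq : Nat.card F = 2 ^ n) (hn : 2 ≤ n) (G : Subgroup (Equiv.Perm F))
    (hsemi : ∀ g ∈ G, ∃ (a : F) (σ : F ≃+* F), ∀ x, g x = a * σ x)
    (htr : ∀ x : F, x ≠ 0 → ∃ g ∈ G, g 1 = x) :
    ∃ g ∈ G, ∃ c : Fˣ, (∀ x, g x = (c : F) * x) ∧ Large n (Subgroup.zpowers c) := by
  classical
  haveI : Finite (F ≃+* F) := Finite.of_injective (fun e => (e : F → F)) DFunLike.coe_injective
  choose a σ haσ using fun g : G => hsemi g g.2
  have ha : ∀ g, a g ≠ 0 := fun g h => one_ne_zero ((g : Equiv.Perm F).injective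
    (show (g : Equiv.Perm F) 1 = (g : Equiv.Perm F) 0 by rw [haσ, haσ, h, zero_mul, zero_mul]))
  have huniq : ∀ (g : G) (b : F) (τ : F ≃+* F), (∀ x, (g : Equiv.Perm F) x = b * τ x) → a g = b ∧ σ g = τ := by
    intro g b τ h
    have h1 : a g = b := by
      have := (haσ g 1).symm.trans (h 1)
      rwa [map_one, map_one, mul_one, mul_one] at this
    exact ⟨h1, RingEquiv.ext fun x => mul_left_cancel₀ (ha g) ((haσ g x).symm.trans (h1 ▸ h x))⟩
  let θ : G →* (F ≃+* F) := MonoidHom.mk' σ fun g h => (huniq (g * h) (a g * σ g (a h)) (σ g * σ h)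
    fun x => by
      show (g : Equiv.Perm F) ((h : Equiv.Perm F) x) = _
      rw [haσ h, haσ g, map_mul, RingAut.mul_apply]; ring).2
  have hscal : ∀ g : θ.ker, ∀ x, (g : Equiv.Perm F) x = a g * x := fun g x => by
    rw [haσ, show σ (g : G) = 1 from g.2]; rfl
  let μ : θ.ker →* Fˣ := MonoidHom.mk' (fun g => Units.mk0 (a g) (ha g)) fun g h => Units.ext (by
    refine (huniq (g.1 * h.1) (a g * a h) 1 fun x => ?_).1
    show (g : Equiv.Perm F) ((h : Equiv.Perm F) x) = _
    rw [hscal, hscal, RingAut.one_apply]; ring)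
  have hμ : Function.Injective μ := fun g h e => Subtype.ext (Subtype.ext (Equiv.ext fun x => by
    rw [hscal, hscal, show a (g : G) = a (h : G) from congrArg (fun u : Fˣ => (u : F)) e]))
  have hG : 2 ^ n - 1 ∣ Nat.card G := by
    let act : MulAction G {x : F // x ≠ 0} :=
      { smul := fun g x => ⟨(g : Equiv.Perm F) x, by
          rw [haσ]; exact mul_ne_zero (ha g) ((map_ne_zero_iff _ (σ g).injective).mpr x.2)⟩
        one_smul := fun x => rfl
        mul_smul := fun g h x => rfl }
    haveI : MulAction.IsPretransitive G {x : F // x ≠ 0} := by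
      refine ⟨fun x y => ?_⟩
      obtain ⟨g, hg, hgx⟩ := htr x.1 x.2
      obtain ⟨h, hh, hhy⟩ := htr y.1 y.2
      refine ⟨⟨h, hh⟩ * ⟨g, hg⟩⁻¹, Subtype.ext ?_⟩
      show h (g.symm x.1) = y.1
      rw [← hgx, Equiv.symm_apply_apply, hhy]
    have h1 := (MulAction.stabilizer G (⟨1, one_ne_zero⟩ : {x : F // x ≠ 0})).index_dvd_card
    rw [MulAction.index_stabilizer_of_transitive] at h1
    have h2 : Nat.card {x : F // x ≠ 0} = 2 ^ n - 1 := by
      rw [← hq, ← Nat.card_units]; exact (Nat.card_congr unitsEquivNeZero).symm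
    rwa [h2] at h1
  have hdvd : 2 ^ n - 1 ∣ Nat.card μ.range * n := by
    refine hG.trans ?_
    rw [← Nat.card_congr (MonoidHom.ofInjective hμ).toEquiv,
      ← (θ.ker).card_mul_index, Subgroup.index_ker]
    exact Nat.mul_dvd_mul_left _ (card_ringAut hq ▸ Subgroup.card_subgroup_dvd_card _)
  obtain ⟨⟨c, hc⟩, hgen⟩ := IsCyclic.exists_generator (α := μ.range)
  obtain ⟨g, hg⟩ := hc
  refine ⟨g.1.1, g.1.2, c, fun x => by rw [hscal, ← hg]; rfl, hq, hn, ?_⟩
  have hz : Subgroup.zpowers c = μ.range := by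
    refine le_antisymm ((Subgroup.zpowers_le).mpr ⟨g, hg⟩) fun x hx => ?_
    obtain ⟨i, hi⟩ := hgen ⟨x, hx⟩
    exact ⟨i, by simpa using congrArg Subtype.val hi⟩
  rwa [hz]

variable {P : Type*} [Group P] [Finite P]

/-- The setting of a solvable group of automorphisms transitive on the involutions. -/
theorem exists_setting (hP : IsPGroup 2 P)
    (hne : ∃ x y : P, x ≠ y ∧ x ≠ 1 ∧ x * x = 1 ∧ y ≠ 1 ∧ y * y = 1)
    (T : Subgroup (MulAut P)) (hT : Group.IsSolvable T)
    (htr : ∀ x y : P, x ≠ 1 → x * x = 1 → y ≠ 1 → y * y = 1 → ∃ k ∈ T, k x = y) :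
    ∃ K, Setting T K := by
  classical
  haveI := hT
  haveI : Fact (Nat.Prime 2) := ⟨Nat.prime_two⟩
  obtain ⟨x₀, y₀, hxy, hx₀, hx₀2, hy₀, hy₀2⟩ := hne
  haveI : Finite (MulAut P) := Finite.of_injective (fun e => (e : P → P)) DFunLike.coe_injective
  haveI : Nontrivial P := ⟨x₀, 1, hx₀⟩
  haveI := hP.center_nontrivial
  -- the involutions are central
  have hcent : ∀ v : P, v * v = 1 → ∀ g : P, g * v = v * g := by
    obtain ⟨i, hi0, hi⟩ := (hP.to_subgroup (Subgroup.center P)).nontrivial_iff_card.mp inferInstance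
    obtain ⟨z, hz⟩ := exists_prime_orderOf_dvd_card' (G := Subgroup.center P) 2
      (hi ▸ dvd_pow_self 2 hi0.ne')
    have hz2 : (z : P) * z = 1 := by
      have := pow_orderOf_eq_one z
      rw [hz, pow_two] at this
      exact congrArg Subtype.val this
    have hz1 : (z : P) ≠ 1 := fun h => by
      rw [show z = 1 from Subtype.ext h, orderOf_one] at hz; omega
    intro v hv g
    by_cases h1 : v = 1
    · simp [h1]
    obtain ⟨k, -, hk⟩ := htr z v hz1 hz2 h1 hv
    have h := congrArg k (Subgroup.mem_center_iff.mp z.2 (k⁻¹ g))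
    simp only [map_mul, MulAut.apply_inv_self, hk] at h
    exact h
  let V : Subgroup P :=
    { carrier := {v | v * v = 1}
      one_mem' := one_mul 1
      mul_mem' := fun {a b} ha hb => by
        show a * b * (a * b) = 1
        calc a * b * (a * b) = a * (b * a) * b := by group
          _ = a * (a * b) * b := by rw [hcent a ha b]
          _ = (a * a) * (b * b) := by group
          _ = 1 := by rw [show a * a = 1 from ha, show b * b = 1 from hb, one_mul]
      inv_mem' := fun {a} (ha : a * a = 1) => by show a⁻¹ * a⁻¹ = 1; rw [← mul_inv_rev, ha, inv_one] }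
  letI : CommGroup V :=
    { (inferInstance : Group V) with mul_comm := fun a b => Subtype.ext (hcent b b.2 a) }
  letI : Module (ZMod 2) (Additive V) := AddCommGroup.zmodModule fun x => by
    rw [two_nsmul]; exact Subtype.ext x.toMul.2
  haveI : Nontrivial (Additive V) :=
    ⟨Additive.ofMul ⟨x₀, hx₀2⟩, 0, fun h => hx₀ (congrArg (fun v : Additive V => (v.toMul : P)) h)⟩
  -- the action on the involutions
  have hVk : ∀ (k : MulAut P) (v : V), k v ∈ V := fun k v => by
    show k v * k v = 1
    rw [← map_mul, show (v : P) * v = 1 from v.2, map_one]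
  let rl : T →* (Additive V ≃ₗ[ZMod 2] Additive V) :=
    { toFun := fun k =>
        (AddEquiv.toLinearEquiv
          { toFun := fun v => Additive.ofMul ⟨(k : MulAut P) v.toMul, hVk k v.toMul⟩
            invFun := fun v => Additive.ofMul ⟨((k⁻¹ : T) : MulAut P) v.toMul, hVk _ v.toMul⟩
            left_inv := fun v => Additive.toMul.injective (Subtype.ext (by simp))
            right_inv := fun v => Additive.toMul.injective (Subtype.ext (by simp))
            map_add' := fun a b => congrArg Additive.ofMul (Subtype.ext (map_mul (k : MulAut P) _ _)) }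
          (fun c x => ZMod.map_smul
            ({ toFun := fun v => Additive.ofMul ⟨(k : MulAut P) v.toMul, hVk k v.toMul⟩
               map_zero' := congrArg Additive.ofMul (Subtype.ext (map_one (k : MulAut P)))
               map_add' := fun a b => congrArg Additive.ofMul (Subtype.ext (map_mul (k : MulAut P) _ _)) } :
              Additive V →+ Additive V) c x))
      map_one' := LinearEquiv.ext fun v => rfl
      map_mul' := fun a b => LinearEquiv.ext fun v => rfl }
  haveI : Finite (Additive V ≃ₗ[ZMod 2] Additive V) :=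
    Finite.of_injective (fun e => (e : Additive V → Additive V)) DFunLike.coe_injective
  haveI : Group.IsSolvable rl.range := Group.isSolvable_of_surjective rl.rangeRestrict_surjective
  have hne0 : ∀ v : Additive V, v ≠ 0 → (v.toMul : P) ≠ 1 := fun v hv h =>
    hv (congrArg Additive.ofMul (Subtype.ext h : v.toMul = 1))
  rcases Cfsg.Agent.S3360.result 2 (V := Additive V) (G := rl.range) inferInstance rl.range.subtype
      Subtype.val_injective (fun v w hv hw => by
        obtain ⟨k, hk, hkv⟩ := htr _ _ (hne0 v hv) v.toMul.2 (hne0 w hw) w.toMul.2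
        exact ⟨⟨rl ⟨k, hk⟩, _, rfl⟩, congrArg Additive.ofMul (Subtype.ext hkv)⟩) with hsemi | hexc
  swap
  · exfalso
    obtain ⟨j, hj⟩ := IsPGroup.iff_card.mp (hP.to_subgroup V)
    rw [show Nat.card (Additive V) = 2 ^ j from (Nat.card_congr Additive.toMul).trans hj] at hexc
    simp only [Set.mem_insert_iff, Set.mem_singleton_iff] at hexc
    rcases j with _ | j <;> simp [pow_succ] at hexc <;> omega
  obtain ⟨F, hF, hFf, e, hsem⟩ := hsemi
  let val : F → P := fun t => ((e.symm t).toMul : P)
  have hi : Function.Injective val := fun s t h =>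
    e.symm.injective (Additive.toMul.injective (Subtype.ext h))
  have hadd : ∀ s t, val (s + t) = val s * val t := fun s t => by simp [val, map_add]
  have hv : ∀ v : P, v * v = 1 ↔ v ∈ Set.range val := fun v =>
    ⟨fun h => ⟨e (Additive.ofMul ⟨v, h⟩), by simp [val]⟩, by rintro ⟨t, rfl⟩; exact (e.symm t).toMul.2⟩
  haveI := charTwo hi hadd hv
  haveI : Finite F := Finite.of_fintype F
  obtain ⟨n, hn⟩ : ∃ n, Nat.card F = 2 ^ n := by
    obtain ⟨j, hj⟩ := IsPGroup.iff_card.mp (hP.to_subgroup V)
    exact ⟨j, ((Nat.card_congr e.toEquiv).symm.trans (Nat.card_congr Additive.toMul)).trans hj⟩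
  have hn2 : 2 ≤ n := by
    have h3 : ({val 0, x₀, y₀} : Finset P).card = 3 := by
      simp [val_zero hadd, hxy, hx₀.symm, hy₀.symm]
    haveI := Fintype.ofFinite F
    have h4 : ({val 0, x₀, y₀} : Finset P).card ≤ (Finset.univ.image val).card := by
      refine Finset.card_le_card fun v hvm => ?_
      simp only [Finset.mem_insert, Finset.mem_singleton] at hvm
      simp only [Finset.mem_image, Finset.mem_univ, true_and]
      rcases hvm with rfl | rfl | rfl
      · exact ⟨0, rfl⟩
      · exact (hv _).mp hx₀2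
      · exact (hv _).mp hy₀2
    rw [Finset.card_image_of_injective _ hi, h3, Finset.card_univ, ← Nat.card_eq_fintype_card, hn] at h4
    rcases n with _ | _ | n <;> simp_all
  -- transport to the field
  let ψ : T →* (Equiv.Perm F) :=
    { toFun := fun k => e.symm.toEquiv.trans ((rl k).toEquiv.trans e.toEquiv)
      map_one' := Equiv.ext fun t => by simp
      map_mul' := fun a b => Equiv.ext fun t => by simp }
  have hψv : ∀ (k : T) t, val (ψ k t) = (k : MulAut P) (val t) := fun k t => by
    show ((e.symm (e (rl k (e.symm t)))).toMul : P) = _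
    rw [AddEquiv.symm_apply_apply]; rfl
  obtain ⟨g, ⟨κ, rfl⟩, c, hc, hL⟩ := exists_scalars hn hn2 ψ.range (by
      rintro _ ⟨k, rfl⟩
      obtain ⟨a, σ, haσ⟩ := hsem ⟨rl k, _, rfl⟩
      exact ⟨a, σ, fun t => by simpa [ψ] using haσ (e.symm t)⟩)
    (fun t ht => by
      obtain ⟨k, hk, hkv⟩ := htr (val 1) (val t) (fun h => one_ne_zero (hi (h.trans (val_zero hadd).symm)))
        ((hv _).mpr ⟨1, rfl⟩) (fun h => ht (hi (h.trans (val_zero hadd).symm))) ((hv _).mpr ⟨t, rfl⟩)
      exact ⟨_, ⟨⟨k, hk⟩, rfl⟩, hi ((hψv ⟨k, hk⟩ 1).trans hkv)⟩)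
  -- an automorphism of odd order inducing the generator
  have hcodd : ¬ 2 ∣ orderOf c := by
    intro h2
    have h3 := h2.trans (orderOf_dvd_natCard c)
    rw [Nat.card_units, hn] at h3
    obtain ⟨j, hj⟩ := h3
    obtain ⟨i, rfl⟩ : ∃ i, n = i + 1 := ⟨n - 1, by omega⟩
    rw [pow_succ] at hj
    have := Nat.one_le_two_pow (n := i)
    omega
  set N := orderOf κ
  have hN : N ≠ 0 := (orderOf_pos κ).ne'
  set u := N.factorization 2
  let κ' : T := κ ^ 2 ^ u
  have hκ' : orderOf κ' = N / 2 ^ u := by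
    rw [orderOf_pow, Nat.gcd_eq_right (Nat.ordProj_dvd N 2)]
  have hodd : Odd (Nat.card (Subgroup.zpowers (κ' : MulAut P))) := by
    rw [Nat.card_zpowers, Subgroup.orderOf_coe, hκ', Nat.odd_iff, ← Nat.two_dvd_ne_zero]
    exact Nat.not_dvd_ordCompl Nat.prime_two hN
  refine ⟨Subgroup.zpowers (κ' : MulAut P), hP, (Subgroup.zpowers_le).mpr κ'.2, hodd, hcent, htr,
    ⟨x₀, y₀, hxy, hx₀, hx₀2, hy₀, hy₀2⟩, F, hF, inferInstance, n, val, ?_⟩
  let C : Subgroup T := Subgroup.zpowers κ'
  let sc : Subgroup.zpowers (κ' : MulAut P) → Fˣ := fun k =>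
    Units.mk0 (ψ ⟨(k : MulAut P), (Subgroup.zpowers_le).mpr κ'.2 k.2⟩ 1)
      (fun h => one_ne_zero ((Equiv.injective _) (h.trans (show (0 : F) = ψ _ 0 from (by simp [ψ]) ))))
  have hpow : ∀ (i : ℤ) t, ψ (κ ^ i) t = ((c ^ i : Fˣ) : F) * t := by
    intro i
    induction i using Int.induction_on with
    | zero => intro t; simp
    | succ i ih =>
      intro t
      rw [zpow_add_one, map_mul, zpow_add_one, Units.val_mul]
      show ψ (κ ^ (i : ℤ)) (ψ κ t) = _
      rw [hc, ih]; ring
    | pred i ih =>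
      intro t
      rw [zpow_sub_one, map_mul, zpow_sub_one, Units.val_mul]
      show ψ (κ ^ (-(i : ℤ))) (ψ κ⁻¹ t) = _
      have h1 : ψ κ⁻¹ t = ((c⁻¹ : Fˣ) : F) * t := by
        rw [map_inv]
        exact (ψ κ).symm_apply_eq.mpr (by rw [hc, Units.mul_inv_cancel_left])
      rw [h1, ih]; ring
  have hsc : ∀ (k : Subgroup.zpowers (κ' : MulAut P)), ∃ i : ℤ, sc k = c ^ i ∧
      ∀ t, (k : MulAut P) (val t) = val ((sc k : F) * t) := by
    rintro ⟨k, j, rfl⟩
    have hk : (⟨(κ' : MulAut P) ^ j, (Subgroup.zpowers_le).mpr κ'.2 ⟨j, rfl⟩⟩ : T)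
        = κ ^ (((2 ^ u : ℕ) : ℤ) * j) := by
      rw [zpow_mul, zpow_natCast]; exact Subtype.ext (by simp [κ'])
    have h1 : sc ⟨(κ' : MulAut P) ^ j, j, rfl⟩ = c ^ (((2 ^ u : ℕ) : ℤ) * j) := by
      refine Units.ext ?_
      show ψ _ 1 = _
      rw [hk, hpow, mul_one]
    refine ⟨_, h1, fun t => ?_⟩
    rw [h1, ← hpow, ← hk, hψv]
  have hval1 : ∀ k (s : Fˣ), (∀ t, (k : Subgroup.zpowers (κ' : MulAut P)).1 (val t) = val ((s : F) * t)) → sc k = s := by
    intro k s h
    obtain ⟨i, -, h2⟩ := hsc k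
    have := hi ((h2 1).symm.trans (h 1))
    rw [mul_one, mul_one] at this
    exact Units.ext this
  let lam : Subgroup.zpowers (κ' : MulAut P) →* Fˣ := MonoidHom.mk' sc fun a b => hval1 _ _ fun t => by
    obtain ⟨-, -, h2⟩ := hsc a
    obtain ⟨-, -, h3⟩ := hsc b
    rw [Units.val_mul, mul_assoc, ← h2, ← h3]; rfl
  refine ⟨lam, ?_, hi, hadd, hv, fun k t => by obtain ⟨-, -, h⟩ := hsc k; exact h t⟩
  have hrange : lam.range = Subgroup.zpowers c := by
    refine le_antisymm ?_ ((Subgroup.zpowers_le).mpr ?_)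
    · rintro _ ⟨k, rfl⟩
      obtain ⟨i, h, -⟩ := hsc k
      exact ⟨i, h.symm⟩
    · have h1 : lam ⟨_, Subgroup.mem_zpowers (κ' : MulAut P)⟩ = c ^ 2 ^ u := by
        refine hval1 _ _ fun t => ?_
        rw [← zpow_natCast c (2 ^ u), ← hpow, hψv, zpow_natCast]
      obtain ⟨j, hj⟩ := exists_pow_eq_self_of_coprime (x := c) (n := 2 ^ u)
        (Nat.Coprime.pow_left u ((Nat.prime_two.coprime_iff_not_dvd).mpr hcodd))
      exact hj ▸ ⟨(⟨_, Subgroup.mem_zpowers (κ' : MulAut P)⟩ : Subgroup.zpowers (κ' : MulAut P)) ^ j, by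
        rw [map_pow, h1]⟩
  rwa [hrange]

/-- Squares and commutators are central involutions and the centre consists of the involutions. -/
theorem special (hP : IsPGroup 2 P) (hna : ∃ x y : P, x * y ≠ y * x)
    (hne : ∃ x y : P, x ≠ y ∧ x ≠ 1 ∧ x * x = 1 ∧ y ≠ 1 ∧ y * y = 1)
    (T : Subgroup (MulAut P)) (hT : Group.IsSolvable T)
    (htr : ∀ x y : P, x ≠ 1 → x * x = 1 → y ≠ 1 → y * y = 1 → ∃ k ∈ T, k x = y) :
    commutator P = frattini P ∧ frattini P = Subgroup.center P ∧
      ∀ x : P, x ∈ Subgroup.center P ↔ x ^ 2 = 1 := by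
  haveI : Fact (Nat.Prime 2) := ⟨Nat.prime_two⟩
  obtain ⟨K, hS⟩ := exists_setting hP hne T hT htr
  have hh := upper_inv_eq_top hS hna
  have hz : Subgroup.center P = hS.inv := le_antisymm (fun z hz => hS.center_sq hna z hz)
    fun v hv => Subgroup.mem_center_iff.mpr fun g => hS.central v hv g
  have h1 : commutator P ≤ hS.inv := by
    rw [commutator_def, Subgroup.commutator_le]
    intro a _ b _
    exact (hh b).2 a
  have h2 : commutator P = hS.inv := by
    refine hS.irreducible _ h1 (fun k _ w hw => ?_) fun h => ?_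
    · exact (Subgroup.characteristic_iff_le_comap.mp inferInstance k) hw
    · obtain ⟨x, y, hxy⟩ := hna
      refine hxy (mul_inv_eq_iff_eq_mul.mp (mul_inv_eq_one.mp ?_))
      have hm : x * y * x⁻¹ * y⁻¹ ∈ commutator P := by
        rw [commutator_def]
        exact Subgroup.commutator_mem_commutator (Subgroup.mem_top x) (Subgroup.mem_top y)
      rwa [h, Subgroup.mem_bot] at hm
  have hfr : frattini P = hS.inv := by
    haveI : hS.inv.Normal := inv_normal hS
    refine le_antisymm (CfsgLib.Critical.frattini_le_of_elementary hS.inv h1 fun x => by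
      rw [pow_two]; exact (hh x).1) ?_
    rw [← h2]
    exact (CfsgLib.PSolvable.commutator_le_frattini hP).1
  refine ⟨h2.trans hfr.symm, hfr.trans hz.symm, fun x => ?_⟩
  rw [hz, hS.mem_inv, pow_two]

end CfsgLib.SolvTrans
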