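import Cfsg.Agent.Lib.PGroup.SolvTrans.Center

/-!
# The central quotient

With a solvable group of automorphisms transitive on the involutions, squares and commutators are
central involutions.
-/

set_option autoImplicit false
set_option linter.style.haveILetI false
set_option linter.unusedSectionVars false

namespace CfsgLib.SolvTrans

variable {P : Type*} [Group P] [Finite P] {T K : Subgroup (MulAut P)}

/-- An element of `K` moving an involution fixes no coset other than the trivial one. -/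
theorem mem_of_fixed_coset (hS : Setting T K) (N : Subgroup P) (hN : ∀ k ∈ K, ∀ a ∈ N, k a ∈ N)
    {k : MulAut P} (hk : k ∈ K) (hk1 : Moves k) {x : P} (hx : x⁻¹ * k x ∈ N) : x ∈ N := by
  obtain ⟨j, r, a, hr, hr2, ho, hm⟩ := hS.exists_moving_pow hk hk1
  have hpow : ∀ i : ℕ, x⁻¹ * (k ^ i) x ∈ N := by
    intro i
    induction i with
    | zero => simp
    | succ i ih =>
      have := N.mul_mem hx (hN k hk _ ih)
      simpa [pow_succ', map_mul, map_inv, mul_assoc] using this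
  obtain ⟨c, hc, hfix⟩ := fixed_in_coset hS.two (k ^ j) hr hr2 ho N
    (fun a ha => hN _ (K.pow_mem hk j) a ha) x (hpow j)
  have hxc := hS.fpf (K.pow_mem hk j) hm hfix
  rw [eq_inv_of_mul_eq_one_left hxc]
  exact N.inv_mem hc

/-- There is no normal abelian invariant subgroup of exponent at least eight. -/
theorem no_big_abelian (hS : Setting T K) (hna : ∃ x y : P, x * y ≠ y * x) (A : Subgroup P)
    (hAn : A.Normal) (hAk : ∀ k ∈ T, ∀ a ∈ A, k a ∈ A) (hAc : ∀ a ∈ A, ∀ b ∈ A, a * b = b * a)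
    (hinv : hS.inv ≤ A) (h : ∃ a ∈ A, a ^ 4 ≠ 1) : False := by
  classical
  obtain ⟨x0, y0, hxy0⟩ := hna
  let S : Set (Subgroup P) := {B | B.Normal ∧ (∀ k ∈ T, ∀ a ∈ B, k a ∈ B) ∧
    (∀ a ∈ B, ∀ b ∈ B, a * b = b * a) ∧ hS.inv ≤ B ∧ ∃ a ∈ B, a ^ 4 ≠ 1}
  obtain ⟨B, hB, hBmax⟩ := (Set.toFinite S).exists_maximal ⟨A, hAn, hAk, hAc, hinv, h⟩
  obtain ⟨hBn, hBk, hBc, hBinv, a, ha, ha4⟩ := hB
  have ha2 : a * a ≠ 1 := fun h => ha4 (by
    rw [show a ^ 4 = (a * a) * (a * a) by simp [pow_succ, mul_assoc], h, one_mul])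
  obtain ⟨Y, g, M, hYn, hg3, hYA⟩ := exists_layer hS B hBn hBk hBc hBinv a ha ha2
  have hYc := M.commutative (M.centralizes (hg3 ha4))
  have hBtop : B ≠ ⊤ := fun h => hxy0 (hBc x0 (h ▸ Subgroup.mem_top x0) y0 (h ▸ Subgroup.mem_top y0))
  exact hYA hBtop (hBmax ⟨hYn, M.invX, hYc, hBinv.trans M.le, a, M.le ha, ha4⟩ M.le)

/-- The preimage of the involutions of the centre of `P ⧸ A`. -/
def upper (A : Subgroup P) [A.Normal] : Subgroup P :=
  Subgroup.comap (QuotientGroup.mk' A)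
    { carrier := {q | q * q = 1 ∧ ∀ r, r * q = q * r}
      one_mem' := ⟨one_mul 1, fun r => by simp⟩
      mul_mem' := fun {u v} hu hv => ⟨by
          calc u * v * (u * v) = u * (v * u) * v := by group
            _ = u * (u * v) * v := by rw [hu.2 v]
            _ = (u * u) * (v * v) := by group
            _ = 1 := by rw [hu.1, hv.1, one_mul],
        fun r => by rw [← mul_assoc, hu.2 r, mul_assoc, hv.2 r, mul_assoc]⟩
      inv_mem' := fun {u} hu => by
        have : u⁻¹ = u := inv_eq_of_mul_eq_one_right hu.1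
        rw [this]; exact hu }

theorem mem_upper {A : Subgroup P} [A.Normal] {x : P} :
    x ∈ upper A ↔ x * x ∈ A ∧ ∀ g, g * x * g⁻¹ * x⁻¹ ∈ A := by
  constructor
  · rintro ⟨h1, h2⟩
    refine ⟨(QuotientGroup.eq_one_iff _).mp (by simpa using h1), fun g => ?_⟩
    rw [← QuotientGroup.eq_one_iff]
    have := h2 (QuotientGroup.mk' A g)
    simp only [QuotientGroup.mk'_apply] at this
    simp only [QuotientGroup.mk_mul, QuotientGroup.mk_inv]
    rw [this]; group
  · rintro ⟨h1, h2⟩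
    refine ⟨?_, fun r => ?_⟩
    · show (x : P ⧸ A) * x = 1
      rw [← QuotientGroup.mk_mul]; exact (QuotientGroup.eq_one_iff _).mpr h1
    · obtain ⟨g, rfl⟩ := QuotientGroup.mk'_surjective A r
      have := (QuotientGroup.eq_one_iff _).mpr (h2 g)
      simp only [QuotientGroup.mk_mul, QuotientGroup.mk_inv, mul_inv_eq_iff_eq_mul, one_mul] at this
      exact this

theorem le_upper (A : Subgroup P) [hA : A.Normal] : A ≤ upper A := fun a ha =>
  mem_upper.mpr ⟨A.mul_mem ha ha, fun g => A.mul_mem (hA.conj_mem a ha g) (A.inv_mem ha)⟩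

theorem normal_of_le_upper (A B : Subgroup P) [A.Normal] (h1 : A ≤ B) (h2 : B ≤ upper A) : B.Normal :=
  ⟨fun b hb g => by
    have := B.mul_mem (h1 ((mem_upper.mp (h2 hb)).2 g)) hb
    simpa using this⟩

theorem upper_inv (A : Subgroup P) [A.Normal] (hA : ∀ k ∈ T, ∀ a ∈ A, k a ∈ A) :
    ∀ k ∈ T, ∀ x ∈ upper A, k x ∈ upper A := by
  intro k hk x hx
  rw [mem_upper] at hx ⊢
  refine ⟨by rw [← map_mul]; exact hA k hk _ hx.1, fun g => ?_⟩
  have := hA k hk _ (hx.2 (k⁻¹ g))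
  simpa [map_mul, map_inv] using this

theorem upper_ne (hP : IsPGroup 2 P) (A : Subgroup P) [A.Normal] (hne : A ≠ ⊤) : ¬ upper A ≤ A := by
  intro hle
  haveI : Fact (Nat.Prime 2) := ⟨Nat.prime_two⟩
  haveI : Nontrivial (P ⧸ A) := by
    obtain ⟨g, hg⟩ : ∃ g, g ∉ A := by
      by_contra h; push Not at h
      exact hne (eq_top_iff.mpr fun g _ => h g)
    exact ⟨(g : P ⧸ A), 1, fun h => hg ((QuotientGroup.eq_one_iff g).mp h)⟩
  haveI := (hP.to_quotient A).center_nontrivial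
  obtain ⟨i, hi0, hi⟩ := ((hP.to_quotient A).to_subgroup
    (Subgroup.center (P ⧸ A))).nontrivial_iff_card.mp inferInstance
  obtain ⟨z, hz⟩ := exists_prime_orderOf_dvd_card' (G := Subgroup.center (P ⧸ A)) 2
    (hi ▸ dvd_pow_self 2 hi0.ne')
  obtain ⟨g, hg⟩ := QuotientGroup.mk'_surjective A (z : P ⧸ A)
  have hgX : g ∈ upper A := by
    rw [upper, Subgroup.mem_comap, hg]
    refine ⟨?_, fun r => Subgroup.mem_center_iff.mp z.2 r⟩
    have := pow_orderOf_eq_one z
    rw [hz, pow_two] at this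
    exact congrArg Subtype.val this
  have hz1 : z = 1 := by
    refine Subtype.ext ?_
    rw [← hg]; exact (QuotientGroup.eq_one_iff g).mpr (hle hgX)
  rw [hz1, orderOf_one] at hz
  omega

/-- Restriction of the setting to an invariant subgroup containing the involutions. -/
theorem exists_setting_sub (hS : Setting T K) (W : Subgroup P) (hW : ∀ k ∈ T, ∀ w ∈ W, k w ∈ W)
    (hinv : hS.inv ≤ W) : ∃ T' L : Subgroup (MulAut W), Setting T' L := by
  let res : T →* MulAut W :=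
    { toFun := fun k =>
        { toFun := fun w => ⟨(k : MulAut P) w, hW k k.2 w w.2⟩
          invFun := fun w => ⟨((k⁻¹ : T) : MulAut P) w, hW _ (k⁻¹).2 w w.2⟩
          left_inv := fun w => Subtype.ext (by simp)
          right_inv := fun w => Subtype.ext (by simp)
          map_mul' := fun a b => Subtype.ext (map_mul (k : MulAut P) (a : P) (b : P)) }
      map_one' := MulEquiv.ext fun w => Subtype.ext rfl
      map_mul' := fun a b => MulEquiv.ext fun w => Subtype.ext rfl }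
  obtain ⟨x, y, hxy, hx, hx2, hy, hy2⟩ := hS.nontriv
  obtain ⟨F, hF, hFf, n, val, lam, hL, hi, hadd, hv, hvk⟩ := hS.scalars
  set φ : K →* MulAut W := res.comp (Subgroup.inclusion hS.le)
  refine ⟨res.range, φ.range, hS.two.to_subgroup W, ?_, hS.odd.of_dvd_nat (Subgroup.card_range_dvd φ),
    fun v hv g => Subtype.ext (hS.central v (congrArg Subtype.val hv) g), ?_,
    ⟨⟨x, hinv hx2⟩, ⟨y, hinv hy2⟩, fun h => hxy (congrArg Subtype.val h),
    fun h => hx (congrArg Subtype.val h), Subtype.ext hx2, fun h => hy (congrArg Subtype.val h), Subtype.ext hy2⟩, ?_⟩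
  · rintro _ ⟨k, rfl⟩; exact ⟨_, rfl⟩
  · intro u v hu hu2 hv hv2
    obtain ⟨k, hk, hkv⟩ := hS.trans u v (fun h => hu (Subtype.ext h)) (congrArg Subtype.val hu2)
      (fun h => hv (Subtype.ext h)) (congrArg Subtype.val hv2)
    exact ⟨res ⟨k, hk⟩, ⟨_, rfl⟩, Subtype.ext hkv⟩
  · have hvalW : ∀ t, val t ∈ W := fun t => hinv ((hv _).mpr ⟨t, rfl⟩)
    have hker : φ.rangeRestrict.ker ≤ lam.ker := by
      intro k hk
      rw [MonoidHom.ker_rangeRestrict, MonoidHom.mem_ker] at hk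
      refine MonoidHom.mem_ker.mpr (Units.ext ?_)
      have h1 := congrArg (fun e : MulAut W => ((e ⟨val 1, hvalW 1⟩ : W) : P)) hk
      have h2 := hi ((hvk k 1).symm.trans h1)
      rwa [mul_one] at h2
    have hs := φ.rangeRestrict_surjective
    let lam' : φ.range →* Fˣ := φ.rangeRestrict.liftOfSurjective hs ⟨lam, hker⟩
    have hl : ∀ k, lam' (φ.rangeRestrict k) = lam k := fun k =>
      φ.rangeRestrict.liftOfRightInverse_comp_apply _ (Function.rightInverse_surjInv hs) ⟨lam, hker⟩ k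
    refine ⟨F, hF, hFf, n, fun t => ⟨val t, hvalW t⟩, lam', ?_, fun s t h => hi (congrArg Subtype.val h),
      fun s t => Subtype.ext (hadd s t), fun v => ⟨fun h => ?_, ?_⟩, ?_⟩
    · rwa [show lam'.range = lam.range by
        ext u
        simp only [MonoidHom.mem_range]
        refine ⟨?_, ?_⟩
        · rintro ⟨q, hq⟩; obtain ⟨k, rfl⟩ := hs q; exact ⟨k, (hl k).symm.trans hq⟩
        · rintro ⟨k, hk⟩; exact ⟨φ.rangeRestrict k, (hl k).trans hk⟩]
    · obtain ⟨t, ht⟩ := (hv v).mp (congrArg Subtype.val h)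
      exact ⟨t, Subtype.ext ht⟩
    · rintro ⟨t, rfl⟩; exact Subtype.ext ((hv _).mpr ⟨t, rfl⟩)
    · intro q t
      obtain ⟨k, rfl⟩ := hs q
      rw [hl]
      exact Subtype.ext (hvk k t)

theorem inv_normal (hS : Setting T K) : hS.inv.Normal :=
  ⟨fun v hv g => by rw [hS.central v hv g, mul_inv_cancel_right]; exact hv⟩

/-- **Higman.** Squares and commutators are central involutions. -/
theorem upper_inv_eq_top (hS : Setting T K) (hna : ∃ x y : P, x * y ≠ y * x) :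
    ∀ x : P, x * x ∈ hS.inv ∧ ∀ g, g * x * g⁻¹ * x⁻¹ ∈ hS.inv := by
  classical
  haveI : hS.inv.Normal := inv_normal hS
  suffices htop : upper hS.inv = ⊤ from fun x => mem_upper.mp (htop ▸ Subgroup.mem_top x)
  set Z := hS.inv with hZ
  have hZk : ∀ k ∈ T, ∀ a ∈ Z, k a ∈ Z := fun k _ a ha => by
    show k a * k a = 1
    rw [← map_mul, show a * a = 1 from ha, map_one]
  set X := upper Z with hX
  have hXk := upper_inv Z hZk
  have hXn : X.Normal := normal_of_le_upper Z X (le_upper Z) le_rfl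
  haveI := hXn
  by_contra hXtop
  have hzc : ∀ v ∈ Z, ∀ g : P, g * v = v * g := fun v hv g => hS.central v hv g
  have hzsq : ∀ v ∈ Z, v * v = 1 := fun v hv => hv
  -- commutation with an element of `X` is a homomorphism to `Z`
  have hXhom : ∀ x ∈ X, ∀ g h : P,
      g * h * x * (g * h)⁻¹ * x⁻¹ = (g * x * g⁻¹ * x⁻¹) * (h * x * h⁻¹ * x⁻¹) := by
    intro x hx g h
    have hc := (mem_upper.mp hx).2 h
    calc g * h * x * (g * h)⁻¹ * x⁻¹ = (g * (h * x * h⁻¹ * x⁻¹)) * x * g⁻¹ * x⁻¹ := by group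
      _ = ((h * x * h⁻¹ * x⁻¹) * g) * x * g⁻¹ * x⁻¹ := by rw [hzc _ hc g]
      _ = (h * x * h⁻¹ * x⁻¹) * (g * x * g⁻¹ * x⁻¹) := by group
      _ = _ := (hzc _ hc _).symm
  have hcentX : ∀ x ∈ X, ∀ g h : P,
      (g * g) * x = x * (g * g) ∧ (g * h * g⁻¹ * h⁻¹) * x = x * (g * h * g⁻¹ * h⁻¹) := by
    intro x hx g h
    have hcx := (mem_upper.mp hx).2
    let φ : P →* P := MonoidHom.mk' (fun g => g * x * g⁻¹ * x⁻¹) (hXhom x hx)
    have h1 : φ (g * g) = 1 := by rw [map_mul]; exact hzsq _ (hcx g)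
    have h2 : φ (g * h * g⁻¹ * h⁻¹) = 1 := by
      rw [map_mul, map_mul, map_mul, map_inv, map_inv]
      rw [show φ g * φ h = φ h * φ g from (hzc _ (hcx g) (φ h)).symm]
      group
    exact ⟨mul_inv_eq_iff_eq_mul.mp (mul_inv_eq_one.mp h1), mul_inv_eq_iff_eq_mul.mp (mul_inv_eq_one.mp h2)⟩
  set Y := upper X with hY
  have hYk := upper_inv X hXk
  -- the centre of `X`
  set D := X ⊓ Subgroup.centralizer (X : Set P) with hD
  have memD : ∀ d, d ∈ D ↔ d ∈ X ∧ ∀ x ∈ X, x * d = d * x := fun d => Iff.rfl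
  have hDk : ∀ k ∈ T, ∀ d ∈ D, k d ∈ D := by
    intro k hk d hd
    rw [memD] at hd ⊢
    refine ⟨hXk k hk d hd.1, fun x hx => ?_⟩
    have := congrArg k (hd.2 _ (hXk k⁻¹ (T.inv_mem hk) x hx))
    simpa [map_mul] using this
  have hDc : ∀ a ∈ D, ∀ b ∈ D, a * b = b * a := fun a ha b hb => ((memD b).mp hb).2 a ha.1
  have hZD : Z ≤ D := fun v hv => (memD v).mpr ⟨le_upper Z hv, fun x _ => hzc v hv x⟩
  have hsqD : ∀ y ∈ Y, y * y ∈ D := fun y hy =>
    (memD _).mpr ⟨(mem_upper.mp hy).1, fun x hx => ((hcentX x hx y y).1).symm⟩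
  have hcD : ∀ g, ∀ y ∈ Y, g * y * g⁻¹ * y⁻¹ ∈ D := fun g y hy =>
    (memD _).mpr ⟨(mem_upper.mp hy).2 g, fun x hx => ((hcentX x hx g y).2).symm⟩
  have hYX : ¬ Y ≤ X := upper_ne hS.two X hXtop
  by_cases hDZ : D ≤ Z
  · exact hYX fun y hy => mem_upper.mpr ⟨hDZ (hsqD y hy), fun g => hDZ (hcD g y hy)⟩
  -- squaring identifies `D` modulo `Z` with `Z`
  let π : D →* P := MonoidHom.mk' (fun d => (d : P) * d) fun a b => by
    calc (a : P) * b * ((a : P) * b) = a * ((b : P) * a) * b := by group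
      _ = a * ((a : P) * b) * b := by rw [hDc _ b.2 _ a.2]
      _ = (a : P) * a * ((b : P) * b) := by group
  have hπZ : π.range = Z := by
    refine hS.irreducible _ ?_ ?_ ?_
    · rintro _ ⟨d, rfl⟩; exact (mem_upper.mp d.2.1).1
    · rintro k hk _ ⟨d, rfl⟩; exact ⟨⟨k d, hDk k hk d d.2⟩, (map_mul k _ _).symm⟩
    · intro h
      apply hDZ
      intro d hd
      have : π ⟨d, hd⟩ ∈ π.range := ⟨_, rfl⟩
      rwa [h, Subgroup.mem_bot] at this
  have hroot : ∀ v : Z, ∃ d ∈ D, d * d = (v : P) := fun v => by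
    obtain ⟨d, hd⟩ : (v : P) ∈ π.range := hπZ.symm ▸ v.2
    exact ⟨d, d.2, hd⟩
  choose rt hrtD hrt using hroot
  -- the field
  obtain ⟨F, hF, hFfin, n, val, lam, hL, hvalinj, hval, hv, hvk0⟩ := hS.scalars
  haveI := charTwo hvalinj hval hv
  have hchar : ∀ t : F, t + t = 0 := CharTwo.add_self_eq_zero
  have hq := hL.card
  have hvalZ : ∀ t, val t ∈ Z := fun t => (hv _).mpr ⟨t, rfl⟩
  have hval0 : val 0 = 1 := val_zero hval
  obtain ⟨lift, hlift⟩ : ∃ lift : ∀ v : P, v ∈ Z → F, ∀ v h, val (lift v h) = v :=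
    ⟨fun v h => Classical.choose ((hv v).mp h), fun v h => Classical.choose_spec ((hv v).mp h)⟩
  have hvk : ∀ (k : K) t, val ((lam k : F) * t) = (k : MulAut P) (val t) := fun k t => (hvk0 k t).symm
  -- the action of `P` on `D`
  have hcomD : ∀ g, ∀ d ∈ D, g * d * g⁻¹ * d⁻¹ ∈ Z := fun g d hd => (mem_upper.mp hd.1).2 g
  have hdelta : ∀ g, ∀ a ∈ D, ∀ b ∈ D, g * (a * b) * g⁻¹ * (a * b)⁻¹
      = (g * a * g⁻¹ * a⁻¹) * (g * b * g⁻¹ * b⁻¹) := by
    intro g a _ b hb
    calc g * (a * b) * g⁻¹ * (a * b)⁻¹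
        = (g * a * g⁻¹) * ((g * b * g⁻¹ * b⁻¹) * a⁻¹) := by group
      _ = (g * a * g⁻¹) * (a⁻¹ * (g * b * g⁻¹ * b⁻¹)) := by rw [hzc _ (hcomD g b hb) a⁻¹]
      _ = _ := by group
  have hwd : ∀ g, ∀ a ∈ D, ∀ b ∈ D, a * a = b * b → g * a * g⁻¹ * a⁻¹ = g * b * g⁻¹ * b⁻¹ := by
    intro g a ha b hb hab
    have hab' : a * b⁻¹ ∈ Z := by
      show a * b⁻¹ * (a * b⁻¹) = 1
      calc a * b⁻¹ * (a * b⁻¹) = a * (b⁻¹ * a) * b⁻¹ := by group
        _ = a * (a * b⁻¹) * b⁻¹ := by rw [hDc _ (D.inv_mem hb) _ ha]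
        _ = (a * a) * (b * b)⁻¹ := by group
        _ = 1 := by rw [hab, mul_inv_cancel]
    have h1 := hdelta g (a * b⁻¹) (hZD hab') b hb
    rw [inv_mul_cancel_right, delta_inv_eq_one hS g hab', one_mul] at h1
    exact h1
  have hdmem : ∀ g t, g * rt (⟨val t, hvalZ t⟩ : Z) * g⁻¹ * (rt (⟨val t, hvalZ t⟩ : Z))⁻¹ ∈ Z := fun g t =>
    hcomD g _ (hrtD _)
  let E : P → F →+ F := fun g => AddMonoidHom.mk' (fun t => lift _ (hdmem g t)) fun s t => by
    refine hvalinj ?_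
    refine Eq.trans ?_ (hval _ _).symm
    rw [hlift, hlift, hlift, ← hdelta g _ (hrtD _) _ (hrtD _)]
    refine hwd g _ (hrtD _) _ (D.mul_mem (hrtD _) (hrtD _)) ?_
    rw [hrt]
    have := π.map_mul ⟨rt (⟨val s, hvalZ s⟩ : Z), hrtD _⟩ ⟨rt (⟨val t, hvalZ t⟩ : Z), hrtD _⟩
    simp only [π, MonoidHom.mk'_apply, Subgroup.coe_mul] at this
    rw [this, hrt, hrt]
    exact hval s t
  have hE : ∀ g, ∀ d ∈ D, ∀ t, d * d = val t → val (E g t) = g * d * g⁻¹ * d⁻¹ := by
    intro g d hd t h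
    show val (lift _ (hdmem g t)) = _
    rw [hlift]
    exact hwd g _ (hrtD _) d hd (by rw [hrt]; exact h.symm)
  have hEv : ∀ g t, val (E g t) = g * rt (⟨val t, hvalZ t⟩ : Z) * g⁻¹ * (rt (⟨val t, hvalZ t⟩ : Z))⁻¹ := fun g t =>
    hlift _ (hdmem g t)
  have hEadd : ∀ g h, E (g * h) = E g + E h := fun g h => AddMonoidHom.ext fun t => by
    refine hvalinj ?_
    rw [AddMonoidHom.add_apply, hval, hEv, hEv, hEv]
    exact hXhom _ (hrtD _).1 g h
  have hE1 : E 1 = 0 := AddMonoidHom.ext fun t => hvalinj (by rw [hEv, AddMonoidHom.zero_apply, hval0]; group)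
  have hEk : ∀ (k : K) g t, val (E ((k : MulAut P) g) ((lam k : F) * t)) = (k : MulAut P) (val (E g t)) := by
    intro k g t
    rw [hE _ _ (hDk k (hS.le k.2) _ (hrtD (⟨val t, hvalZ t⟩ : Z))) _ (by rw [← map_mul, hrt, hvk]), hEv]
    simp [map_mul, map_inv]
  have hEX : ∀ x ∈ X, E x = 0 := fun x hx => AddMonoidHom.ext fun t => hvalinj (by
    rw [hEv, AddMonoidHom.zero_apply, hval0, ((memD _).mp (hrtD (⟨val t, hvalZ t⟩ : Z))).2 x hx]; group)
  -- the centralizer of `D` in `Y` lies in `X`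
  have hEzero : ∀ y ∈ Y, E y = 0 → y ∈ X := by
    set W0 := Y ⊓ Subgroup.centralizer (D : Set P) with hW0
    suffices hW : W0 ≤ X by
      intro y hy h0
      refine hW ⟨hy, fun d hd => ?_⟩
      have h := hE y d hd (lift (d * d) (mem_upper.mp hd.1).1) (hlift _ _).symm
      rw [h0, AddMonoidHom.zero_apply, hval0] at h
      exact (mul_inv_eq_iff_eq_mul.mp (mul_inv_eq_one.mp h.symm)).symm
    by_contra hW0X
    have hXW : X ≤ W0 := fun x hx => ⟨le_upper X hx, fun d hd => (((memD d).mp hd).2 x hx).symm⟩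
    have hW0Y : W0 ≤ Y := inf_le_left
    have hW0n : W0.Normal := normal_of_le_upper X W0 hXW hW0Y
    have hW0k : ∀ k ∈ T, ∀ w ∈ W0, k w ∈ W0 := by
      refine fun k hk w hw => ⟨hYk k hk w hw.1, fun d hd => ?_⟩
      have := congrArg k (hw.2 _ (hDk k⁻¹ (T.inv_mem hk) d hd))
      simpa [map_mul] using this
    have hcent : ∀ y ∈ W0, ∀ d ∈ D, y * d = d * y := fun y hy d hd => (hy.2 d hd).symm
    by_cases hsq : ∀ y ∈ W0, y * y ∈ Z
    · apply hW0X
      intro y hy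
      refine mem_upper.mpr ⟨hsq y hy, fun g => ?_⟩
      set c := g * y * g⁻¹ * y⁻¹ with hc
      have hcd := hcD g y (hW0Y hy)
      show c * c = 1
      calc c * c = c * (y * c * y⁻¹) := by rw [hcent y hy c hcd]; group
        _ = g * (y * y) * g⁻¹ * (y * y)⁻¹ := by rw [hc]; group
        _ = 1 := delta_inv_eq_one hS g (hsq y hy)
    · push Not at hsq
      obtain ⟨y, hy, hyy⟩ := hsq
      have hd := hsqD y (hW0Y hy)
      have hy4 : y ^ 4 ≠ 1 := fun h => hyy (by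
        show y * y * (y * y) = 1
        rw [← h]; simp [pow_succ, mul_assoc])
      have hab : ∀ a ∈ W0, ∀ b ∈ W0, a * b = b * a := by
        by_contra h
        push Not at h
        obtain ⟨a, ha, b, hb, hab⟩ := h
        obtain ⟨T', L, hL'⟩ := exists_setting_sub hS W0 hW0k ((le_upper Z).trans hXW)
        have h2 := hL'.center_sq ⟨⟨a, ha⟩, ⟨b, hb⟩, fun h => hab (congrArg Subtype.val h)⟩
          ⟨y * y, hXW hd.1⟩ (Subgroup.mem_center_iff.mpr fun w => Subtype.ext (hcent w w.2 _ hd))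
        exact hyy (congrArg Subtype.val h2)
      exact no_big_abelian hS hna W0 hW0n hW0k hab ((le_upper Z).trans hXW) ⟨y, hy, hy4⟩
  -- a minimal subgroup above `X` invariant under the scalars
  obtain ⟨Y1, ⟨hXY1, hY1Y, hY1k, hY1X⟩, hmin⟩ :=
    (Set.toFinite {W : Subgroup P | X ≤ W ∧ W ≤ Y ∧ (∀ k ∈ K, ∀ w ∈ W, k w ∈ W) ∧ ¬ W ≤ X}).exists_minimal
      ⟨Y, le_upper X, le_rfl, fun k hk => hYk k (hS.le hk), hYX⟩
  have hdich : ∀ W : Subgroup P, X ≤ W → W ≤ Y1 → (∀ k ∈ K, ∀ w ∈ W, k w ∈ W) → W ≤ X ∨ Y1 ≤ W := by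
    intro W h1 h2 h3
    by_cases h : W ≤ X
    · exact Or.inl h
    · exact Or.inr (hmin ⟨h1, h2.trans hY1Y, h3, h⟩ h2)
  -- the image is a twisted family
  let M : AddSubgroup (F →+ F) :=
    { carrier := E '' (Y1 : Set P)
      zero_mem' := ⟨1, Y1.one_mem, hE1⟩
      add_mem' := by
        rintro _ _ ⟨a, ha, rfl⟩ ⟨b, hb, rfl⟩
        exact ⟨a * b, Y1.mul_mem ha hb, hEadd a b⟩
      neg_mem' := by
        rintro _ ⟨a, ha, rfl⟩
        refine ⟨a⁻¹, Y1.inv_mem ha, ?_⟩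
        have := hEadd a⁻¹ a
        rw [inv_mul_cancel, hE1] at this
        exact eq_neg_of_add_eq_zero_left this.symm }
  let cj : Fˣ → (F →+ F) → (F →+ F) := fun μ f =>
    ((AddMonoidHom.mulLeft (μ : F)).comp f).comp (AddMonoidHom.mulLeft ((μ⁻¹ : Fˣ) : F))
  have hcjE : ∀ (k : K) y, cj (lam k) (E y) = E ((k : MulAut P) y) := by
    intro k y
    refine AddMonoidHom.ext fun t => hvalinj ?_
    show val ((lam k : F) * E y (((lam k)⁻¹ : Fˣ) * t)) = _
    rw [hvk, ← hEk, Units.mul_inv_cancel_left]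
  have hker : ∀ y ∈ Y1, E y = 0 → y ∈ X := fun y hy => hEzero y (hY1Y hy)
  have hfam := hL.twisted_family M cj (fun μ f v => rfl)
    (fun μ hμ => by
      obtain ⟨k, rfl⟩ := hμ
      rintro _ ⟨y, hy, rfl⟩
      exact ⟨_, hY1k k k.2 y hy, (hcjE k y).symm⟩)
    (fun N hN hNinv => by
      let W : Subgroup P :=
        { carrier := {y | y ∈ Y1 ∧ E y ∈ N}
          one_mem' := ⟨Y1.one_mem, by rw [hE1]; exact N.zero_mem⟩
          mul_mem' := fun {a b} ha hb => ⟨Y1.mul_mem ha.1 hb.1, by rw [hEadd]; exact N.add_mem ha.2 hb.2⟩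
          inv_mem' := fun {a} ha => ⟨Y1.inv_mem ha.1, by
            have := hEadd a⁻¹ a
            rw [inv_mul_cancel, hE1] at this
            rw [eq_neg_of_add_eq_zero_left this.symm]; exact N.neg_mem ha.2⟩ }
      rcases hdich W (fun x hx => ⟨hXY1 hx, by rw [hEX x hx]; exact N.zero_mem⟩) (fun y hy => hy.1)
        (fun k hk w hw => ⟨hY1k k hk w hw.1, by rw [← hcjE ⟨k, hk⟩]; exact hNinv _ ⟨_, rfl⟩ _ hw.2⟩) with h | h
      · left
        rw [AddSubgroup.eq_bot_iff_forall]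
        intro f hf
        obtain ⟨y, hy, rfl⟩ := hN hf
        exact hEX y (h ⟨hy, hf⟩)
      · right
        refine le_antisymm hN ?_
        rintro _ ⟨y, hy, rfl⟩
        exact (h hy).2)
    (fun μ hμ f hf hf0 hfix => by
      obtain ⟨k, rfl⟩ := hμ
      obtain ⟨y, hy, rfl⟩ := hf
      rw [hcjE] at hfix
      by_contra hne
      have hk1 : Moves (k : MulAut P) := by
        refine ⟨val 1, hvalZ 1, fun h => hne (Units.ext ?_)⟩
        have := hvalinj ((hvk k 1).trans h)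
        rwa [mul_one] at this
      apply hf0
      refine hEX y (mem_of_fixed_coset hS X (fun k hk => hXk k (hS.le hk)) k.2 hk1 (hker _ (Y1.mul_mem (Y1.inv_mem hy) (hY1k k k.2 y hy)) ?_))
      have h1 := hEadd y⁻¹ y
      rw [inv_mul_cancel, hE1] at h1
      rw [hEadd, hfix, ← h1])
  have hinjE : ∀ y ∈ Y1, y ∉ X → ∀ t, E y t = 0 → t = 0 := fun y hy hyX =>
    (hfam _ ⟨y, hy, rfl⟩ fun h => hyX (hker y hy h)).1
  -- squares are central
  have hsq : ∀ y ∈ Y1, y * y ∈ Z := by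
    intro y hy
    by_cases hyX : y ∈ X
    · exact (mem_upper.mp hyX).1
    have hd := hsqD y (hY1Y hy)
    have hdd : y * y * (y * y) ∈ Z := (mem_upper.mp hd.1).1
    have h := hE y _ hd (lift _ hdd) (hlift _ _).symm
    have h0 : val (E y (lift _ hdd)) = val 0 := by rw [h, hval0]; group
    have := hinjE y hy hyX _ (hvalinj h0)
    have h1 := hlift _ hdd
    rw [this, hval0] at h1
    exact h1.symm
  -- the value of a commutator
  have hc4 : ∀ g, ∀ y ∈ Y1, (g * y * g⁻¹ * y⁻¹) * (g * y * g⁻¹ * y⁻¹) ∈ Z := fun g y hy =>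
    (mem_upper.mp (hcD g y (hY1Y hy)).1).1
  let b : P → Y1 → F := fun g y => lift _ (hc4 g y y.2)
  have hconjsq : ∀ (a : P) c, c * c ∈ Z → (a * c * a⁻¹) * (a * c * a⁻¹) = c * c := fun a c h => by
    calc (a * c * a⁻¹) * (a * c * a⁻¹) = a * (c * c) * a⁻¹ := by group
      _ = c * c := by rw [hzc _ h a]; group
  have hfixb : ∀ g (y : Y1), E y (b g y) = b g y := by
    intro g y
    refine hvalinj ?_
    set c := g * y * g⁻¹ * (y : P)⁻¹ with hc
    have hcd := hcD g y (hY1Y y.2)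
    have hzero : c * (y * c * (y : P)⁻¹) = 1 :=
      calc c * (y * c * (y : P)⁻¹) = g * ((y : P) * y) * g⁻¹ * ((y : P) * y)⁻¹ := by rw [hc]; group
        _ = 1 := delta_inv_eq_one hS g (hsq y y.2)
    rw [hE y c hcd _ (hlift _ _).symm, hlift]
    have hcyc := hcomD y c hcd
    have h1 : c * ((y * c * (y : P)⁻¹ * c⁻¹) * c) = 1 := by rw [← hzero]; group
    rw [← mul_assoc, hzc _ hcyc c, mul_assoc] at h1
    calc (y : P) * c * (y : P)⁻¹ * c⁻¹ = (c * c)⁻¹ := eq_inv_of_mul_eq_one_left h1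
      _ = c * c := inv_eq_of_mul_eq_one_left (hc4 g y y.2)
  have hbadd : ∀ g (y y' : Y1), b g (y * y') = b g y + b g y' := by
    intro g y y'
    refine hvalinj ?_
    rw [hlift, hval, hlift, hlift, Subgroup.coe_mul]
    set c := g * y * g⁻¹ * (y : P)⁻¹
    set c' := g * y' * g⁻¹ * (y' : P)⁻¹
    rw [show g * ((y : P) * y') * g⁻¹ * ((y : P) * y')⁻¹ = c * (y * c' * (y : P)⁻¹) by
      simp only [c, c']; group]
    have hcd := hcD g y (hY1Y y.2)
    have hcd' := hcD g y' (hY1Y y'.2)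
    have hcy : y * c' * (y : P)⁻¹ ∈ D := by
      have := D.mul_mem (hZD (hcomD y c' hcd')) hcd'
      rwa [inv_mul_cancel_right] at this
    rw [← hconjsq y c' (hc4 g y' y'.2)]
    exact π.map_mul ⟨c, hcd⟩ ⟨_, hcy⟩
  have hbgadd : ∀ g h (y : Y1), b (g * h) y = b g y + b h y := by
    intro g h y
    refine hvalinj ?_
    rw [hlift, hval, hlift, hlift]
    set c := g * y * g⁻¹ * (y : P)⁻¹
    set c' := h * y * h⁻¹ * (y : P)⁻¹
    rw [show g * h * (y : P) * (g * h)⁻¹ * (y : P)⁻¹ = (g * c' * g⁻¹) * c by simp only [c, c']; group]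
    have hcd := hcD g y (hY1Y y.2)
    have hcd' := hcD h y (hY1Y y.2)
    have hcg : g * c' * g⁻¹ ∈ D := by
      have := D.mul_mem (hZD (hcomD g c' hcd')) hcd'
      rwa [inv_mul_cancel_right] at this
    rw [hzc _ (hc4 h y y.2) (c * c), ← hconjsq g c' (hc4 h y y.2)]
    exact π.map_mul ⟨_, hcg⟩ ⟨c, hcd⟩
  have hball : ∀ g (y y' : Y1), (y : P) ∉ X → (y' : P) ∉ X → b g y ≠ 0 → b g y' ≠ 0 := by
    intro g y y' _ hy' hb h0
    have h1 := hfixb g (y * y')
    rw [hbadd, h0, add_zero, Subgroup.coe_mul, hEadd, AddMonoidHom.add_apply, hfixb g y] at h1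
    exact hb (hinjE y' y'.2 hy' _ (add_eq_left.mp h1))
  obtain ⟨y₀, hy₀, hy₀X⟩ : ∃ y ∈ Y1, y ∉ X := by
    by_contra h; push Not at h; exact hY1X h
  have hb0 : ∀ g (y : Y1), (y : P) ∈ X → b g y = 0 := by
    intro g y hy
    refine hvalinj ?_
    rw [hlift, hval0]
    exact hzsq _ ((mem_upper.mp hy).2 g)
  let P0 : Subgroup P :=
    { carrier := {g | ∀ y, b g y = 0}
      one_mem' := fun y => by
        have := hbgadd 1 1 y
        rwa [one_mul, left_eq_add] at this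
      mul_mem' := fun {a c} ha hc y => by rw [hbgadd, ha y, hc y, add_zero]
      inv_mem' := fun {a} ha y => by
        have := hbgadd a⁻¹ a y
        rw [inv_mul_cancel, ha y, add_zero] at this
        rw [← this]
        have h2 := hbgadd 1 1 y
        rwa [one_mul, left_eq_add] at h2 }
  have hbk : ∀ (k : K) g (y : Y1), b ((k : MulAut P) g) ⟨(k : MulAut P) y, hY1k k k.2 y y.2⟩
      = (lam k : F) * b g y := by
    intro k g y
    refine hvalinj ?_
    rw [hlift, hvk, hlift]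
    simp [map_mul, map_inv]
  have hP0k : ∀ k ∈ K, ∀ g ∈ P0, k g ∈ P0 := by
    intro k hk g hg y
    have h := hbk ⟨k, hk⟩ g ⟨k⁻¹ (y : P), hY1k _ (K.inv_mem hk) y y.2⟩
    rw [hg, mul_zero] at h
    simpa using h
  have hnon : ∀ g, g ∉ P0 → ∀ y : Y1, (y : P) ∉ X → b g y ≠ 0 := by
    intro g hg y hy
    obtain ⟨y', hy'⟩ : ∃ y', b g y' ≠ 0 := by
      by_contra h; push Not at h; exact hg h
    exact hball g y' y (fun h => hy' (hb0 g y' h)) hy hy'
  have hsame : ∀ g h, g ∉ P0 → h ∉ P0 → g * h ∈ P0 := by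
    intro g h hg hh y
    by_cases hy : (y : P) ∈ X
    · exact hb0 _ y hy
    rw [hbgadd, (hfam _ ⟨y, y.2, rfl⟩ fun h0 => hy (hker y y.2 h0)).2 _ _ (hnon g hg y hy) (hnon h hh y hy)
      (hfixb g y) (hfixb h y)]
    exact hchar _
  have hP0top : ∀ g, g ∈ P0 := by
    intro g
    by_contra hg
    obtain ⟨k, hk, hk1, -⟩ := hS.exists_odd_prime
    refine hg (mem_of_fixed_coset hS P0 hP0k hk hk1 (hsame g⁻¹ (k g) (fun h => hg (by simpa using P0.inv_mem h)) ?_))
    intro h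
    have := hP0k k⁻¹ (K.inv_mem hk) _ h
    exact hg (by simpa using this)
  refine hy₀X (mem_upper.mpr ⟨hsq y₀ hy₀, fun g => ?_⟩)
  have h := hlift _ (hc4 g y₀ hy₀)
  show _ * _ = (1 : P)
  rw [← h, ← hval0]
  exact congrArg val (hP0top g ⟨y₀, hy₀⟩)

end CfsgLib.SolvTrans
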